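import Groth.Agent.CohBase.EdgeAbstract
import Groth.Agent.RDerLES
import Groth.Agent.CohAff.ResOps

/-!
# The edge map `H^p(Y, f_* G) → H^p(X, G)`
-/

universe u

open CategoryTheory CategoryTheory.Limits AlgebraicGeometry TopologicalSpace Opposite

namespace Groth.Agent.CohBase.PushEdge

variable {X Y : Scheme.{u}} (f : X ⟶ Y)

/-- `f⁻¹ f_* G → G` on abelian sheaves. -/
noncomputable def edgeNat :
    (Scheme.Modules.pushforward f ⋙ ModShf.toAbFunctor Y) ⋙ CohPull.inv f.base ⟶ ModShf.toAbFunctor X where
  app G := CohPull.theta f ((Scheme.Modules.pushforward f).obj G) ≫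
    (ModShf.toAbFunctor X).map ((Scheme.Modules.pullbackPushforwardAdjunction f).counit.app G)
  naturality {G G'} φ := by
    apply ((CohPull.invPushAdj f.base).homEquiv _ _).injective
    change (CohPull.invPushAdj f.base).homEquiv _ _ ((CohPull.inv f.base).map
        ((ModShf.toAbFunctor Y).map ((Scheme.Modules.pushforward f).map φ)) ≫ _) =
      (CohPull.invPushAdj f.base).homEquiv _ _ ((CohPull.theta f _ ≫ _) ≫ (ModShf.toAbFunctor X).map φ)
    rw [Adjunction.homEquiv_naturality_left, Adjunction.homEquiv_naturality_right,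
      Adjunction.homEquiv_naturality_right, Adjunction.homEquiv_naturality_right, CohPull.theta,
      CohPull.theta, Equiv.apply_symm_apply, Equiv.apply_symm_apply]
    change (ModShf.toAbFunctor Y).map ((Scheme.Modules.pushforward f).map φ) ≫
        (ModShf.toAbFunctor Y).map _ ≫ (ModShf.toAbFunctor Y).map ((Scheme.Modules.pushforward f).map _) =
      ((ModShf.toAbFunctor Y).map _ ≫ (ModShf.toAbFunctor Y).map ((Scheme.Modules.pushforward f).map _)) ≫
        (ModShf.toAbFunctor Y).map ((Scheme.Modules.pushforward f).map φ)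
    simp only [← Functor.map_comp]
    have h := (Scheme.Modules.pullbackPushforwardAdjunction f).right_triangle_components
    rw [h, h, Category.id_comp, Category.comp_id]

lemma pushEdge_eq (G : X.Modules) (p : ℕ)
    (x : Coh.HH Y ((Scheme.Modules.pushforward f).obj G) p) :
    CohPull.pushEdge f G p x =
      edge f.base (A := ModShf.toAbFunctor X)
        (B := Scheme.Modules.pushforward f ⋙ ModShf.toAbFunctor Y) (edgeNat f) G p x :=
  (Sheaf.H.map_comp_apply (CohPull.theta f ((Scheme.Modules.pushforward f).obj G))
    ((ModShf.toAbFunctor X).map ((Scheme.Modules.pullbackPushforwardAdjunction f).counit.app G)) _).symm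

lemma bijective_zero (G : X.Modules) : Function.Bijective (CohPull.pushEdge f G 0) := by
  have key : ∀ s, Sheaf.H.equiv₀ (Coh.toAb G) isTerminalTop (CohPull.pushEdge f G 0 s) =
      Sheaf.H.equiv₀ (Coh.toAb ((Scheme.Modules.pushforward f).obj G)) isTerminalTop s := by
    intro s
    refine (Sheaf.H.equiv₀_naturality isTerminalTop ((ModShf.toAbFunctor X).map
      ((Scheme.Modules.pullbackPushforwardAdjunction f).counit.app G)) _).symm.trans ?_
    erw [CohPull.equiv₀_pullMod]
    exact congr(Scheme.Modules.Hom.app
      $((Scheme.Modules.pullbackPushforwardAdjunction f).right_triangle_components G) ⊤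
        (Sheaf.H.equiv₀ (Coh.toAb ((Scheme.Modules.pushforward f).obj G)) isTerminalTop s))
  let e := (Sheaf.H.equiv₀ (Coh.toAb ((Scheme.Modules.pushforward f).obj G)) isTerminalTop)
  let e' := (Sheaf.H.equiv₀ (Coh.toAb G) isTerminalTop)
  refine ⟨fun a b h => e.injective ?_, fun t => ⟨e.symm (e' t), e'.injective ?_⟩⟩
  · rw [← key, ← key, h]
  · exact (key _).trans (e.apply_symm_apply _)

variable [HasInjectiveResolutions X.Modules]

/-- The edge map is bijective when the higher direct images vanish. -/
theorem bijective (p : ℕ) (G : X.Modules) (hG : ∀ q : ℕ, IsZero ((Coh.Rpush f (q + 1)).obj G)) :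
    Function.Bijective (CohPull.pushEdge f G p) := by
  rw [show ⇑(CohPull.pushEdge f G p) = ⇑(edge f.base (A := ModShf.toAbFunctor X)
    (B := Scheme.Modules.pushforward f ⋙ ModShf.toAbFunctor Y) (edgeNat f) G p) from
      funext (pushEdge_eq f G p)]
  refine edge_bijective f.base _ (fun M => ∀ q : ℕ, IsZero ((Coh.Rpush f (q + 1)).obj M)) ?_ ?_ p G hG
  · intro M hM
    obtain ⟨S, rfl, hS, hI⟩ : ∃ S : ShortComplex X.Modules, S.X₁ = M ∧ S.ShortExact ∧ Injective S.X₂ :=
      ⟨ShortComplex.mk (Injective.ι M) (cokernel.π (Injective.ι M)) (cokernel.condition _), rfl,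
        ShortComplex.ShortExact.mk' (ShortComplex.exact_of_g_is_cokernel _ (cokernelIsCokernel _))
          inferInstance inferInstance, inferInstance⟩
    let Δ := RDerLES.derivedLES (Scheme.Modules.pushforward f)
    have hI' : ∀ q : ℕ, IsZero ((Coh.Rpush f (q + 1)).obj S.X₂) := fun q =>
      Functor.isZero_rightDerived_obj_injective_succ _ q S.X₂
    refine ⟨S, rfl, hI', fun q => ?_, ?_, ?_, fun q => ?_, fun q => ?_⟩
    · exact (Δ.exact₃ S hS (q + 1) (q + 2) rfl).isZero_of_both_zeros ((hI' q).eq_of_src _ _)
        ((hM (q + 1)).eq_of_tgt _ _)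
    · exact hS.map_of_exact (ModShf.toAbFunctor X)
    · have hg : Epi ((Coh.Rpush f 0).map S.g) :=
        (Δ.exact₃ S hS 0 1 rfl).epi_f ((hM 0).eq_of_tgt _ _)
      have hn := (Scheme.Modules.pushforward f).toRightDerivedZero.naturality S.g
      have he : Epi ((Scheme.Modules.pushforward f).map S.g) := by
        have h1 : Epi ((Scheme.Modules.pushforward f).toRightDerivedZero.app S.X₂ ≫
            (Coh.Rpush f 0).map S.g) := epi_comp _ _
        rw [← hn] at h1
        rw [show (Scheme.Modules.pushforward f).map S.g =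
          ((Scheme.Modules.pushforward f).map S.g ≫
            (Scheme.Modules.pushforward f).toRightDerivedZero.app S.X₃) ≫
            inv ((Scheme.Modules.pushforward f).toRightDerivedZero.app S.X₃) by simp]
        exact epi_comp _ _
      have := hS.mono_f
      have hpush : (S.map (Scheme.Modules.pushforward f)).ShortExact :=
        ShortComplex.ShortExact.mk' (hS.exact.map_of_mono_of_preservesKernel _ ‹_› inferInstance)
          (inferInstanceAs (Mono ((Scheme.Modules.pushforward f).map S.f))) he
      exact hpush.map_of_exact (ModShf.toAbFunctor Y)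
    · exact @CohTop.Flasque.H_subsingleton _ _ (ModShf.isFlasque_toAb_of_injective S.X₂ hI) q
    · exact @CohTop.Flasque.H_subsingleton _ _
        (have := ModShf.isFlasque_toAb_of_injective S.X₂ hI; TopCat.Sheaf.IsFlasque.pushforward_isFlasque
          (Coh.toAb S.X₂) f.base) q
  · intro M _
    rw [show ⇑(edge f.base (A := ModShf.toAbFunctor X)
      (B := Scheme.Modules.pushforward f ⋙ ModShf.toAbFunctor Y) (edgeNat f) M 0) =
        ⇑(CohPull.pushEdge f M 0) from funext fun x => (pushEdge_eq f M 0 x).symm]
    exact bijective_zero f M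

/-- For an affine morphism the higher direct images of quasi-coherent modules vanish. -/
theorem isZero_Rpush_of_isAffineHom [IsAffineHom f] (F : X.Modules) [F.IsQuasicoherent] (q : ℕ) :
    IsZero ((Coh.Rpush f (q + 1)).obj F) := by
  have := CohAff.fresOf_isQuasicoherent (injectiveResolution F)
  refine IsZero.of_iso ?_ (CohAff.rpushSuccIso f (injectiveResolution F) q)
  exact CohAff.FRes.isZero_Rc_of_van _ f fun V hV => CohAff.FRes.van_succ_of_isAffineOpen (hV.preimage f) q

end Groth.Agent.CohBase.PushEdge
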