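import Groth.Prelude.Def_CohPull
import Groth.Agent.CohTop.Flasque

/-!
# Pullback on cohomology and connecting homomorphisms

`pullAb` commutes with the connecting homomorphisms of short exact sequences, and a family of maps
`H^p(Y, M) → H^p(X, Φ M)` (`Φ` exact) compatible with connecting homomorphisms is determined by
degree `0`.
-/

universe u

open CategoryTheory CategoryTheory.Limits TopologicalSpace Opposite

namespace Groth.Agent.CohBase

variable {X Y : TopCat.{u}}

/-- The connecting homomorphism `H^p(S₃) → H^{p+1}(S₁)`. -/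
noncomputable abbrev δH {S : ShortComplex (_root_.CohTop.Ab X)} (hS : S.ShortExact) (p : ℕ) :
    Sheaf.H S.X₃ p →+ Sheaf.H S.X₁ (p + 1) :=
  hS.extClass.postcomp (_root_.CohTop.const X (ULift.{u} ℤ)) rfl

lemma δH_apply {S : ShortComplex (_root_.CohTop.Ab X)} (hS : S.ShortExact) (p : ℕ) (x : Sheaf.H S.X₃ p) :
    δH hS p x = x.comp hS.extClass rfl := rfl

lemma H_map_apply {M N : _root_.CohTop.Ab X} (φ : M ⟶ N) (p : ℕ) (x : Sheaf.H M p) :
    Sheaf.H.map φ p x = x.comp (Abelian.Ext.mk₀ φ) (add_zero p) := rfl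

/-- Naturality of the connecting homomorphism. -/
lemma δH_natural {S T : ShortComplex (_root_.CohTop.Ab X)} (hS : S.ShortExact) (hT : T.ShortExact)
    (α : S ⟶ T) (p : ℕ) (x : Sheaf.H S.X₃ p) :
    δH hT p (Sheaf.H.map α.τ₃ p x) = Sheaf.H.map α.τ₁ (p + 1) (δH hS p x) := by
  rw [H_map_apply, H_map_apply, δH_apply, δH_apply, Abelian.Ext.comp_assoc_of_third_deg_zero,
    ShortComplex.ShortExact.extClass_naturality hS hT α,
    Abelian.Ext.comp_assoc_of_second_deg_zero]

/-- The connecting homomorphism is surjective when the middle term has no cohomology. -/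
lemma δH_surjective {S : ShortComplex (_root_.CohTop.Ab X)} (hS : S.ShortExact) (p : ℕ)
    (h : Subsingleton (Sheaf.H S.X₂ (p + 1))) : Function.Surjective (δH hS p) := fun x =>
  Abelian.Ext.covariant_sequence_exact₁ _ hS x (Subsingleton.elim _ _) rfl

/-- The kernel of the connecting homomorphism. -/
lemma exists_of_δH_eq_zero {S : ShortComplex (_root_.CohTop.Ab X)} (hS : S.ShortExact) (p : ℕ)
    (x : Sheaf.H S.X₃ p) (h : δH hS p x = 0) : ∃ y, Sheaf.H.map S.g p y = x :=
  Abelian.Ext.covariant_sequence_exact₃ _ hS x rfl h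

lemma δH_map {S : ShortComplex (_root_.CohTop.Ab X)} (hS : S.ShortExact) (p : ℕ)
    (y : Sheaf.H S.X₂ p) : δH hS p (Sheaf.H.map S.g p y) = 0 := by
  rw [H_map_apply, δH_apply, Abelian.Ext.comp_assoc_of_second_deg_zero, hS.comp_extClass,
    Abelian.Ext.comp_zero]

variable (f : X ⟶ Y)

lemma pullAb_apply (M : _root_.CohTop.Ab Y) (p : ℕ) (x : Sheaf.H M p) :
    CohPull.pullAb f M p x =
      (Abelian.Ext.mk₀ (CohPull.oneTo f)).comp (x.mapExactFunctor (CohPull.inv f)) (zero_add p) := rfl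

/-- `pullAb` is natural. -/
lemma pullAb_map {M N : _root_.CohTop.Ab Y} (φ : M ⟶ N) (p : ℕ) (x : Sheaf.H M p) :
    CohPull.pullAb f N p (Sheaf.H.map φ p x) =
      Sheaf.H.map ((CohPull.inv f).map φ) p (CohPull.pullAb f M p x) := by
  rw [pullAb_apply, pullAb_apply, H_map_apply, H_map_apply, Abelian.Ext.mapExactFunctor_comp,
    Abelian.Ext.mapExactFunctor_mk₀]
  exact (Abelian.Ext.comp_assoc_of_third_deg_zero _ _ _ (zero_add p)).symm

/-- `pullAb` commutes with the connecting homomorphisms. -/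
lemma pullAb_δH {S : ShortComplex (_root_.CohTop.Ab Y)} (hS : S.ShortExact) (p : ℕ)
    (x : Sheaf.H S.X₃ p) :
    CohPull.pullAb f S.X₁ (p + 1) (δH hS p x) =
      δH (hS.map_of_exact (CohPull.inv f)) p (CohPull.pullAb f S.X₃ p x) := by
  rw [pullAb_apply, pullAb_apply, δH_apply, δH_apply, Abelian.Ext.mapExactFunctor_comp,
    Abelian.Ext.mapExactFunctor_extClass]
  exact (Abelian.Ext.comp_assoc _ _ _ (zero_add p) rfl (by omega)).symm

/-- The embedding of a sheaf into a flasque (injective) one kills positive cohomology. -/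
lemma exists_embedding (M : _root_.CohTop.Ab X) :
    ∃ (S : ShortComplex (_root_.CohTop.Ab X)), S.X₁ = M ∧ S.ShortExact ∧
      ∀ p, Subsingleton (Sheaf.H S.X₂ (p + 1)) := by
  refine ⟨CohTop.Basic.embedding M, rfl, CohTop.Basic.embedding_shortExact M, fun p => ?_⟩
  have : Injective (CohTop.Basic.embedding M).X₂ := Injective.injective_under M
  have := CohTop.Flasque.isFlasque_of_injective (CohTop.Basic.embedding M).X₂
  exact CohTop.Flasque.H_subsingleton _ p

/-- A family of maps `H^p(Y, M) → H^p(X, Φ M)` compatible with connecting homomorphisms is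
determined in degree `0`. -/
theorem eq_of_degree_zero (Φ : _root_.CohTop.Ab Y ⥤ _root_.CohTop.Ab X) [Φ.Additive]
    [PreservesFiniteLimits Φ] [PreservesFiniteColimits Φ]
    (u v : ∀ (M : _root_.CohTop.Ab Y) (p : ℕ), Sheaf.H M p →+ Sheaf.H (Φ.obj M) p)
    (hu : ∀ {S : ShortComplex (_root_.CohTop.Ab Y)} (hS : S.ShortExact) (p : ℕ) (x : Sheaf.H S.X₃ p),
      u S.X₁ (p + 1) (δH hS p x) = δH (hS.map_of_exact Φ) p (u S.X₃ p x))
    (hv : ∀ {S : ShortComplex (_root_.CohTop.Ab Y)} (hS : S.ShortExact) (p : ℕ) (x : Sheaf.H S.X₃ p),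
      v S.X₁ (p + 1) (δH hS p x) = δH (hS.map_of_exact Φ) p (v S.X₃ p x))
    (h0 : ∀ (M : _root_.CohTop.Ab Y) (x : Sheaf.H M 0), u M 0 x = v M 0 x) :
    ∀ (p : ℕ) (M : _root_.CohTop.Ab Y) (x : Sheaf.H M p), u M p x = v M p x := by
  intro p
  induction p with
  | zero => exact h0
  | succ p ih =>
    intro M x
    obtain ⟨S, rfl, hS, h2⟩ := exists_embedding M
    obtain ⟨y, rfl⟩ := δH_surjective hS p (h2 p) x
    rw [hu, hv, ih]

end Groth.Agent.CohBase
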