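import Groth.Prelude.Def_CohCmp
import Groth.Agent.CohBase.PullDelta
import Groth.Agent.LimTop.PullSec
import Groth.Agent.ModShf.Flasque

/-!
# Pullback of cohomology classes over opens

`CohPull.pullOn` and `CohPull.resLE` are `H^p` of a natural transformation after `pullAb`; their values in
degree `0` and compatibility of `resLE` with the connecting homomorphisms.
-/

universe u

open CategoryTheory CategoryTheory.Limits AlgebraicGeometry TopologicalSpace Opposite

namespace Groth.Agent.CohBase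

local notation "rs" => Groth.Agent.QCoh.res

variable {X Y : Scheme.{u}}

/-- `theta` as a natural transformation. -/
noncomputable def thetaNat (g : X ⟶ Y) :
    ModShf.toAbFunctor Y ⋙ CohPull.inv g.base ⟶
      Scheme.Modules.pullback g ⋙ ModShf.toAbFunctor X where
  app M := CohPull.theta g M
  naturality {M N} φ := by
    change (CohPull.inv g.base).map ((ModShf.toAbFunctor Y).map φ) ≫ CohPull.theta g N =
      CohPull.theta g M ≫ (ModShf.toAbFunctor X).map ((Scheme.Modules.pullback g).map φ)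
    apply ((CohPull.invPushAdj g.base).homEquiv _ _).injective
    rw [Adjunction.homEquiv_naturality_left, Adjunction.homEquiv_naturality_right, CohPull.theta,
      CohPull.theta, Equiv.apply_symm_apply, Equiv.apply_symm_apply]
    exact ((ModShf.toAbFunctor Y).map_comp φ _).symm.trans ((congrArg (ModShf.toAbFunctor Y).map
      ((Scheme.Modules.pullbackPushforwardAdjunction g).unit.naturality φ)).trans
      ((ModShf.toAbFunctor Y).map_comp _ _))

/-- `pullOnIso` as a natural isomorphism. -/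
noncomputable def pullOnNatIso (g : X ⟶ Y) (U : Y.Opens) (U' : X.Opens) (h : U' ≤ g ⁻¹ᵁ U) :
    Scheme.Modules.restrictFunctor U.ι ⋙ Scheme.Modules.pullback (g.resLE U U' h) ≅
      Scheme.Modules.pullback g ⋙ Scheme.Modules.restrictFunctor U'.ι :=
  Functor.isoWhiskerRight (Scheme.Modules.restrictFunctorIsoPullback U.ι) _ ≪≫
    Scheme.Modules.pullbackComp (g.resLE U U' h) U.ι ≪≫
    Scheme.Modules.pullbackCongr (Scheme.Hom.resLE_comp_ι g h) ≪≫
    (Scheme.Modules.pullbackComp U'.ι g).symm ≪≫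
    Functor.isoWhiskerLeft (Scheme.Modules.pullback g) (Scheme.Modules.restrictFunctorIsoPullback U'.ι).symm

lemma pullOnNatIso_app (g : X ⟶ Y) (U : Y.Opens) (U' : X.Opens) (h : U' ≤ g ⁻¹ᵁ U) (F : Y.Modules) :
    (CohPull.pullOnIso g U U' h F).hom = (pullOnNatIso g U U' h).hom.app F := rfl

/-- The natural map behind `pullOn`. -/
noncomputable def pullOnNat (g : X ⟶ Y) (U : Y.Opens) (U' : X.Opens) (h : U' ≤ g ⁻¹ᵁ U) :
    CohCmp.toAbOn Y U ⋙ CohPull.inv (g.resLE U U' h).base ⟶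
      Scheme.Modules.pullback g ⋙ CohCmp.toAbOn X U' :=
  Functor.whiskerLeft (Scheme.Modules.restrictFunctor U.ι) (thetaNat (g.resLE U U' h)) ≫
    Functor.whiskerRight (pullOnNatIso g U U' h).hom (ModShf.toAbFunctor U')

lemma pullOn_eq (g : X ⟶ Y) (U : Y.Opens) (U' : X.Opens) (h : U' ≤ g ⁻¹ᵁ U) (F : Y.Modules) (p : ℕ)
    (x : Coh.HHon Y F U p) :
    CohPull.pullOn g U U' h F p x = Sheaf.H.map ((pullOnNat g U U' h).app F) p
      (CohPull.pullAb (g.resLE U U' h).base ((CohCmp.toAbOn Y U).obj F) p x) :=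
  (Sheaf.H.map_comp_apply (CohPull.theta (g.resLE U U' h) (F.restrict U.ι))
    ((ModShf.toAbFunctor U').map ((pullOnNatIso g U U' h).hom.app F)) _).symm

lemma id_le {U U' : X.Opens} (h : U' ≤ U) : U' ≤ (𝟙 X : X ⟶ X) ⁻¹ᵁ U := by
  rwa [Scheme.Hom.id_preimage]

/-- The natural map behind `resLE`. -/
noncomputable def resLENat {U U' : X.Opens} (h : U' ≤ U) :
    CohCmp.toAbOn X U ⋙ CohPull.inv ((𝟙 X : X ⟶ X).resLE U U' (id_le h)).base ⟶ CohCmp.toAbOn X U' :=
  pullOnNat (𝟙 X) U U' (id_le h) ≫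
    Functor.whiskerRight (Scheme.Modules.pullbackId X).hom (CohCmp.toAbOn X U') ≫
      (Functor.leftUnitor _).hom

lemma resLE_eq (F : X.Modules) {U U' : X.Opens} (h : U' ≤ U) (p : ℕ) (x : Coh.HHon X F U p) :
    CohPull.resLE F h p x = Sheaf.H.map ((resLENat h).app F) p
      (CohPull.pullAb ((𝟙 X : X ⟶ X).resLE U U' (id_le h)).base ((CohCmp.toAbOn X U).obj F) p x) := by
  have e1 : CohPull.resLE F h p x = Sheaf.H.map ((CohCmp.toAbOn X U').map
      ((Scheme.Modules.pullbackId X).hom.app F)) p (CohPull.pullOn (𝟙 X) U U' (id_le h) F p x) := rfl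
  have e2 : (resLENat h).app F = (pullOnNat (𝟙 X) U U' (id_le h)).app F ≫
      (CohCmp.toAbOn X U').map ((Scheme.Modules.pullbackId X).hom.app F) ≫ 𝟙 _ := rfl
  rw [e1, e2, Category.comp_id, pullOn_eq]
  exact (Sheaf.H.map_comp_apply _ _ _).symm

/-- Short exactness over an open. -/
lemma toAbOn_shortExact {S : ShortComplex X.Modules} (hS : S.ShortExact) (U : X.Opens) :
    (S.map (CohCmp.toAbOn X U)).ShortExact := by
  have : PreservesFiniteLimits (Scheme.Modules.restrictFunctor U.ι) :=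
    CxOX.preservesFiniteLimits_restrictFunctor U.ι
  have : PreservesFiniteColimits (Scheme.Modules.restrictFunctor U.ι) := inferInstance
  exact (hS.map_of_exact (Scheme.Modules.restrictFunctor U.ι)).map_of_exact (ModShf.toAbFunctor U)

lemma isFlasque_toAbOn {M : X.Modules} (hM : TopCat.Sheaf.IsFlasque (X := X.toTopCat) (Coh.toAb M))
    (U : X.Opens) :
    TopCat.Sheaf.IsFlasque (X := (U : Scheme.{u}).toTopCat) ((CohCmp.toAbOn X U).obj M) :=
  ModShf.isFlasque_of_surjective (X := (U : Scheme.{u}).toTopCat) _ fun {V W} g ↦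
    (AddCommGrpCat.epi_iff_surjective _).1
      (hM.epi (homOfLE (U.ι.image_mono (leOfHom g))).op)

lemma subsingleton_toAbOn_of_injective {M : X.Modules} [Injective M] (U : X.Opens) (p : ℕ) :
    Subsingleton (Sheaf.H ((CohCmp.toAbOn X U).obj M) (p + 1)) :=
  @CohTop.Flasque.H_subsingleton _ _ (isFlasque_toAbOn (ModShf.isFlasque_toAb_of_injective M ‹_›) U) p

/-- `resLE` is natural. -/
lemma resLE_mapH {F G : X.Modules} (ψ : F ⟶ G) {U U' : X.Opens} (h : U' ≤ U) (p : ℕ)
    (x : Coh.HHon X F U p) :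
    CohPull.resLE G h p (Sheaf.H.map ((CohCmp.toAbOn X U).map ψ) p x) =
      Sheaf.H.map ((CohCmp.toAbOn X U').map ψ) p (CohPull.resLE F h p x) := by
  rw [resLE_eq, resLE_eq, pullAb_map, ← Sheaf.H.map_comp_apply, ← Sheaf.H.map_comp_apply]
  exact congrArg (fun q => Sheaf.H.map q p _) ((resLENat h).naturality ψ)

/-- `resLE` commutes with the connecting homomorphisms. -/
lemma resLE_δH {S : ShortComplex X.Modules} (hS : S.ShortExact) {U U' : X.Opens} (h : U' ≤ U) (p : ℕ)
    (x : Coh.HHon X S.X₃ U p) :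
    CohPull.resLE S.X₁ h (p + 1) (δH (toAbOn_shortExact hS U) p x) =
      δH (toAbOn_shortExact hS U') p (CohPull.resLE S.X₃ h p x) := by
  rw [resLE_eq, resLE_eq]
  refine (congrArg _ (pullAb_δH _ (toAbOn_shortExact hS U) p x)).trans ?_
  exact (δH_natural ((toAbOn_shortExact hS U).map_of_exact
    (CohPull.inv ((𝟙 X : X ⟶ X).resLE U U' (id_le h)).base))
    (toAbOn_shortExact hS U') (S.mapNatTrans (resLENat h)) p _).symm

/-! ### Degree zero -/

/-- The comparison of restriction and inverse image on sections. -/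
lemma restrictFunctorIsoPullback_app (j : X ⟶ Y) [IsOpenImmersion j] (F : Y.Modules) (W : X.Opens)
    (m : Γ(F, j ''ᵁ W)) :
    ((Scheme.Modules.restrictFunctorIsoPullback j).hom.app F).app W m =
      LimTop.unitSec j F (U := j ''ᵁ W) (W := W) (j.preimage_image_eq W).ge m := by
  have hu := (Scheme.Modules.restrictAdjunction j).unit_leftAdjointUniq_hom_app
    (Scheme.Modules.pullbackPushforwardAdjunction j) F
  rw [LimTop.unitSec_apply, ← hu]
  have key : rs (F.restrict j) (j.preimage_image_eq W).ge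
      (((Scheme.Modules.restrictAdjunction j).unit.app F).app (j ''ᵁ W) m) = m := by
    rw [Scheme.Modules.restrictAdjunction_unit_app_app]
    exact (QCoh.res_res F (j.image_preimage_le (j ''ᵁ W)) (j.image_mono (j.preimage_image_eq W).ge)
      m).trans (QCoh.res_self F _ m)
  conv_lhs => rw [← key]
  exact (QCoh.app_res ((Scheme.Modules.restrictFunctorIsoPullback j).hom.app F)
    (j.preimage_image_eq W).ge _)

/-- `sectH0` as a class. -/
lemma equiv₀_sectH0 (F : X.Modules) (U : X.Opens) (s : Γ(F, U)) :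
    Sheaf.H.equiv₀ (Coh.toAb (F.restrict U.ι)) isTerminalTop (CohPull.sectH0 F U s) =
      rs F U.ι_image_top.le s :=
  AddEquiv.apply_symm_apply _ _

lemma sectH0_map {F G : X.Modules} (ψ : F ⟶ G) (U : X.Opens) (s : Γ(F, U)) :
    Sheaf.H.map ((CohCmp.toAbOn X U).map ψ) 0 (CohPull.sectH0 F U s) =
      CohPull.sectH0 G U (ψ.app U s) := by
  apply (Sheaf.H.equiv₀ (Coh.toAb (G.restrict U.ι)) isTerminalTop).injective
  rw [equiv₀_sectH0]
  refine (Sheaf.H.equiv₀_naturality isTerminalTop ((CohCmp.toAbOn X U).map ψ) _).symm.trans ?_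
  exact (congrArg (fun t => ((CohCmp.toAbOn X U).map ψ).hom.app (op ⊤) t) (equiv₀_sectH0 F U s)).trans
    (QCoh.app_res ψ U.ι_image_top.le s)

/-- Pullback of classes of sections. -/
lemma pullOn_sectH0 (g : X ⟶ Y) (U : Y.Opens) (U' : X.Opens) (h : U' ≤ g ⁻¹ᵁ U) (F : Y.Modules)
    (s : Γ(F, U)) :
    CohPull.pullOn g U U' h F 0 (CohPull.sectH0 F U s) =
      CohPull.sectH0 _ U' (LimTop.unitSec g F h s) := by
  apply (Sheaf.H.equiv₀ (Coh.toAb (((Scheme.Modules.pullback g).obj F).restrict U'.ι)) isTerminalTop).injective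
  rw [equiv₀_sectH0]
  refine (Sheaf.H.equiv₀_naturality isTerminalTop
    ((ModShf.toAbFunctor U').map (CohPull.pullOnIso g U U' h F).hom) _).symm.trans ?_
  rw [CohPull.equiv₀_pullMod, equiv₀_sectH0]
  let φ := g.resLE U U' h
  let a : Γ(F, U.ι ''ᵁ ⊤) := rs F U.ι_image_top.le s
  have hφ : φ ≫ U.ι = U'.ι ≫ g := Scheme.Hom.resLE_comp_ι g h
  have i1 : (⊤ : U.toScheme.Opens) ≤ U.ι ⁻¹ᵁ (U.ι ''ᵁ ⊤) := (U.ι.preimage_image_eq ⊤).ge
  have i2 : (⊤ : U'.toScheme.Opens) ≤ φ ⁻¹ᵁ ⊤ := le_top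
  have i3 : U'.ι ''ᵁ ⊤ ≤ g ⁻¹ᵁ U := U'.ι_image_top.le.trans h
  have i4 : (⊤ : U'.toScheme.Opens) ≤ U'.ι ⁻¹ᵁ (U'.ι ''ᵁ ⊤) := (U'.ι.preimage_image_eq ⊤).ge
  have i5 : (⊤ : U'.toScheme.Opens) ≤ (φ ≫ U.ι) ⁻¹ᵁ (U.ι ''ᵁ ⊤) := i2.trans (φ.preimage_mono i1)
  have e0 : ((Scheme.Modules.pullbackPushforwardAdjunction φ).unit.app (F.restrict U.ι)).app ⊤ a =
      LimTop.unitSec φ (F.restrict U.ι) i2 a := by
    rw [LimTop.unitSec_apply]
    exact (QCoh.res_self ((Scheme.Modules.pullback φ).obj (F.restrict U.ι)) (le_refl ⊤) _).symm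
  have e1 : ((Scheme.Modules.pullback φ).map ((Scheme.Modules.restrictFunctorIsoPullback U.ι).hom.app F)).app ⊤
      (LimTop.unitSec φ (F.restrict U.ι) i2 a) =
      LimTop.unitSec φ _ i2 (LimTop.unitSec U.ι F (U := U.ι ''ᵁ ⊤) i1 a) :=
    (LimTop.unitSec_map φ (F.restrict U.ι) i2 ((Scheme.Modules.restrictFunctorIsoPullback U.ι).hom.app F) a).trans
      (congrArg (LimTop.unitSec φ ((Scheme.Modules.pullback U.ι).obj F) i2)
        (restrictFunctorIsoPullback_app U.ι F ⊤ a))
  have e2 : ((Scheme.Modules.pullbackComp φ U.ι).hom.app F).app ⊤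
      (LimTop.unitSec φ _ i2 (LimTop.unitSec U.ι F (U := U.ι ''ᵁ ⊤) i1 a)) =
      LimTop.unitSec (φ ≫ U.ι) F (U := U.ι ''ᵁ ⊤) i5 a :=
    LimTop.unitSec_comp _ _ _ _ _ _
  have e3 : ((Scheme.Modules.pullbackCongr hφ).hom.app F).app ⊤
      (LimTop.unitSec (φ ≫ U.ι) F (U := U.ι ''ᵁ ⊤) i5 a) =
      LimTop.unitSec (U'.ι ≫ g) F (U := U) (i4.trans (U'.ι.preimage_mono i3)) s :=
    (LimTop.unitSec_congr _ _ _ hφ a).trans (LimTop.unitSec_res _ _ _ _ s)
  have e4 : ((Scheme.Modules.pullbackComp U'.ι g).inv.app F).app ⊤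
      (LimTop.unitSec (U'.ι ≫ g) F (U := U) (i4.trans (U'.ι.preimage_mono i3)) s) =
      LimTop.unitSec U'.ι _ i4 (LimTop.unitSec g F i3 s) := by
    rw [← LimTop.unitSec_comp g F i3 U'.ι i4 s, ← ConcreteCategory.comp_apply,
      ← Scheme.Modules.Hom.comp_app, ← NatTrans.comp_app, Iso.hom_inv_id]
    rfl
  have e5 : ((Scheme.Modules.restrictFunctorIsoPullback U'.ι).inv.app _).app ⊤
      (LimTop.unitSec U'.ι _ i4 (LimTop.unitSec g F i3 s)) = LimTop.unitSec g F i3 s := by
    rw [← restrictFunctorIsoPullback_app, ← ConcreteCategory.comp_apply,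
      ← Scheme.Modules.Hom.comp_app, Iso.hom_inv_id_app]
    rfl
  rw [LimTop.res_unitSec]
  change ((Scheme.Modules.restrictFunctorIsoPullback U'.ι).inv.app _).app ⊤
    (((Scheme.Modules.pullbackComp U'.ι g).inv.app F).app ⊤
      (((Scheme.Modules.pullbackCongr hφ).hom.app F).app ⊤
        (((Scheme.Modules.pullbackComp φ U.ι).hom.app F).app ⊤
          (((Scheme.Modules.pullback φ).map
            ((Scheme.Modules.restrictFunctorIsoPullback U.ι).hom.app F)).app ⊤
            (((Scheme.Modules.pullbackPushforwardAdjunction φ).unit.app (F.restrict U.ι)).app ⊤ a))))) = _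
  rw [e0, e1, e2, e3, e4, e5]

/-- `pullbackId` on sections. -/
lemma pullbackId_app_unitSec (F : X.Modules) {U W : X.Opens} (h : W ≤ U) (s : Γ(F, U)) :
    ((Scheme.Modules.pullbackId X).hom.app F).app W (LimTop.unitSec (𝟙 X) F (id_le h) s) = rs F h s := by
  have hu := unit_conjugateEquiv Adjunction.id
    (Scheme.Modules.pullbackPushforwardAdjunction (𝟙 X)) (Scheme.Modules.pullbackId X).hom F
  rw [Scheme.Modules.conjugateEquiv_pullbackId_hom] at hu
  rw [LimTop.unitSec_apply, QCoh.app_res]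
  exact congrArg (rs F h) congr(Scheme.Modules.Hom.app $hu.symm U s)

/-- Restriction of classes of sections. -/
lemma resLE_sectH0 (F : X.Modules) {U U' : X.Opens} (h : U' ≤ U) (s : Γ(F, U)) :
    CohPull.resLE F h 0 (CohPull.sectH0 F U s) = CohPull.sectH0 F U' (rs F h s) := by
  refine (congrArg (Sheaf.H.map ((CohCmp.toAbOn X U').map ((Scheme.Modules.pullbackId X).hom.app F)) 0)
    (pullOn_sectH0 (𝟙 X) U U' (id_le h) F s)).trans ?_
  exact (sectH0_map _ _ _).trans (congrArg _ (pullbackId_app_unitSec F h s))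

end Groth.Agent.CohBase
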