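import Groth.Agent.CohBase.Theory
import Groth.Agent.CohBase.HonPull

/-!
# `Coh.HHon` as a cohomology theory over opens; `CohCmp.SectCmp` as a comparison
-/

universe u

open CategoryTheory CategoryTheory.Limits AlgebraicGeometry TopologicalSpace Opposite

namespace Groth.Agent.CohBase

variable (X : Scheme.{u})

/-- `Coh.HHon` with `CohPull.resLE` and the connecting maps of restricted sequences. -/
noncomputable def honTheory : CohTheory X where
  H U F p := Coh.HHon X F U p
  grp _ _ _ := inferInstance
  map U _ _ ψ p := Sheaf.H.map ((CohCmp.toAbOn X U).map ψ) p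
  res F _ _ h p := CohPull.resLE F h p
  δ U _ hS p := δH (toAbOn_shortExact hS U) p
  sec F U := CohPull.sectH0 F U
  subsingleton_of_flasque U _ hF p := @CohTop.Flasque.H_subsingleton _ _ (isFlasque_toAbOn hF U) p
  exists_of_map_eq_zero U _ hS _ x hx := Abelian.Ext.covariant_sequence_exact₁ _ (toAbOn_shortExact hS U) x hx rfl
  exists_of_δ_eq_zero U _ hS p x hx := exists_of_δH_eq_zero (toAbOn_shortExact hS U) p x hx
  δ_map U _ hS p y := δH_map (toAbOn_shortExact hS U) p y
  map_sec U _ _ ψ s := sectH0_map ψ U s
  res_sec F _ _ h s := resLE_sectH0 F h s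
  res_map ψ _ _ h p x := resLE_mapH ψ h p x
  res_δ hS _ _ h p x := resLE_δH hS h p x

variable {X} {Y : Scheme.{u}}

/-- A `SectCmp` is a comparison for `honTheory`. -/
noncomputable def cmpOf {f : X ⟶ Y} [HasInjectiveResolutions X.Modules]
    {Δ : RDer.DerivedLES (Scheme.Modules.pushforward f)} (E : CohCmp.SectCmp f Δ) : Cmp (honTheory X) f Δ where
  ε := E.ε
  zero := E.zero
  natural V _ _ ψ p x := E.natural V ψ p x
  delta V S hS p x := E.delta V S hS (toAbOn_shortExact hS _) p x

end Groth.Agent.CohBase
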