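import Groth.Agent.CohBase.PullDelta

/-!
# Edge maps by dimension shifting

For a natural transformation `α : B ⋙ f⁻¹ ⟶ A` the maps `H^p(Y, B M) → H^p(X, A M)` are bijective on a
class of objects with effacing short exact sequences inside it as soon as they are so in degree `0`.
-/

universe u v w

open CategoryTheory CategoryTheory.Limits TopologicalSpace Opposite

namespace Groth.Agent.CohBase

variable {X Y : TopCat.{u}} (f : X ⟶ Y) {C : Type v} [Category.{w} C] [HasZeroMorphisms C]
  {A : C ⥤ _root_.CohTop.Ab X} [A.PreservesZeroMorphisms]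
  {B : C ⥤ _root_.CohTop.Ab Y} [B.PreservesZeroMorphisms]
  (α : B ⋙ CohPull.inv f ⟶ A)

/-- The edge map of `α`. -/
noncomputable def edge (M : C) (p : ℕ) : Sheaf.H (B.obj M) p →+ Sheaf.H (A.obj M) p :=
  (Sheaf.H.map (α.app M) p).comp (CohPull.pullAb f (B.obj M) p)

lemma edge_apply (M : C) (p : ℕ) (x : Sheaf.H (B.obj M) p) :
    edge f α M p x = Sheaf.H.map (α.app M) p (CohPull.pullAb f (B.obj M) p x) := rfl

lemma edge_map {M N : C} (φ : M ⟶ N) (p : ℕ) (x : Sheaf.H (B.obj M) p) :
    edge f α N p (Sheaf.H.map (B.map φ) p x) = Sheaf.H.map (A.map φ) p (edge f α M p x) := by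
  rw [edge_apply, edge_apply, pullAb_map, ← Sheaf.H.map_comp_apply, ← Sheaf.H.map_comp_apply]
  exact congrArg (fun q => Sheaf.H.map q p _) (α.naturality φ)

/-- The image under `A` of a short complex. -/
abbrev mapA (S : ShortComplex C) : ShortComplex (_root_.CohTop.Ab X) := S.map A

lemma edge_δH {S : ShortComplex C} (hA : (S.map A).ShortExact) (hB : (S.map B).ShortExact) (p : ℕ)
    (x : Sheaf.H (B.obj S.X₃) p) :
    edge f α S.X₁ (p + 1) (δH hB p x) = δH hA p (edge f α S.X₃ p x) := by
  rw [edge_apply, edge_apply]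
  refine (congrArg _ (pullAb_δH f hB p x)).trans ?_
  exact (δH_natural (hB.map_of_exact (CohPull.inv f)) hA (S.mapNatTrans α) p _).symm

/-- Bijectivity in degree `0` propagates to all degrees along effacing sequences. -/
theorem edge_bijective (P : C → Prop)
    (eff : ∀ M, P M → ∃ S : ShortComplex C, S.X₁ = M ∧ P S.X₂ ∧ P S.X₃ ∧ (S.map A).ShortExact ∧
      (S.map B).ShortExact ∧ (∀ p, Subsingleton (Sheaf.H (A.obj S.X₂) (p + 1))) ∧
      ∀ p, Subsingleton (Sheaf.H (B.obj S.X₂) (p + 1)))
    (h0 : ∀ M, P M → Function.Bijective (edge f α M 0)) :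
    ∀ (p : ℕ) (M : C), P M → Function.Bijective (edge f α M p) := by
  intro p
  induction p with
  | zero => exact h0
  | succ p ih =>
    intro M hM
    obtain ⟨S, rfl, h₂, h₃, hA, hB, vA, vB⟩ := eff M hM
    constructor
    · refine (injective_iff_map_eq_zero _).2 fun x hx => ?_
      obtain ⟨z, rfl⟩ := δH_surjective hB p (vB p) x
      rw [edge_δH f α hA hB] at hx
      obtain ⟨a, ha⟩ := exists_of_δH_eq_zero hA p _ hx
      obtain ⟨b, rfl⟩ := (ih S.X₂ h₂).2 a
      have hz : Sheaf.H.map (B.map S.g) p b = z :=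
        (ih S.X₃ h₃).1 ((edge_map f α S.g p b).trans ha)
      rw [← hz]
      exact δH_map hB p b
    · intro x
      obtain ⟨y, rfl⟩ := δH_surjective hA p (vA p) x
      obtain ⟨z, rfl⟩ := (ih S.X₃ h₃).2 y
      exact ⟨δH hB p z, edge_δH f α hA hB p z⟩

end Groth.Agent.CohBase
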