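import Groth.Agent.NumTriv.AnyField
import Groth.Agent.NumTriv.Section
import Groth.Agent.NefPos.Twist
import Groth.Agent.BigVol.CurvePull
import Groth.Agent.ProjMorph.Ample
import Groth.Agent.S0025
import Groth.Agent.S7636
import Groth.Agent.S17276
import Groth.Agent.S4642
import Groth.Prelude.Def_Pic13

/-!
# Nef and numerically trivial modules under extension of the base field
-/

universe u

open CategoryTheory CategoryTheory.Limits AlgebraicGeometry TopologicalSpace

set_option linter.style.haveILetI false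

noncomputable section

namespace Groth.Agent.CohBase.NefBC

open ProjTwist NefPos

variable (k : Type u) [Field k] (E : Type u) [Field E] [Algebra k E]

theorem nef_iso {X : Scheme.{u}} [X.Over (Spec (CommRingCat.of k))]
    [IsProper (X ↘ Spec (CommRingCat.of k))]
    {L L' : X.Modules} (e : L ≅ L') (h : Nef k X L) : Nef k X L' := fun C hC hdim => by
  rw [← EulerChar.euler_iso k (tensCongr (Iso.refl (ClSub.quotMod C)) e)]
  exact h C hC hdim

theorem dim_bc (X : Scheme.{u}) [X.Over (Spec (CommRingCat.of k))]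
    [IsProper (X ↘ Spec (CommRingCat.of k))] :
    topologicalKrullDim ↥(Curv2.bc k X E) = topologicalKrullDim ↥X :=
  S4642.result (K := E) (X ↘ Spec (CommRingCat.of k))

theorem isProper_bcSnd (X : Scheme.{u}) [X.Over (Spec (CommRingCat.of k))]
    [IsProper (X ↘ Spec (CommRingCat.of k))] : IsProper (Curv2.bcSnd k X E) :=
  MorphismProperty.of_isPullback (IsPullback.of_hasPullback (X ↘ Spec (CommRingCat.of k))
    (Spec.map (CommRingCat.ofHom (algebraMap k E)))) inferInstance

/-- Nef modules stay nef after an extension of the base field. -/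
theorem nef_bc (X : Scheme.{u}) [X.Over (Spec (CommRingCat.of k))]
    [IsProper (X ↘ Spec (CommRingCat.of k))] {L : X.Modules} (hL : PicF.IsInvertible L) (h : Nef k X L) :
    @Nef E _ (Curv2.bc k X E) ⟨Curv2.bcSnd k X E⟩ ((Scheme.Modules.pullback (Curv2.bcFst k X E)).obj L) := by
  letI : (Curv2.bc k X E).Over (Spec (CommRingCat.of E)) := ⟨Curv2.bcSnd k X E⟩
  haveI : IsProper (Curv2.bc k X E ↘ Spec (CommRingCat.of E)) := isProper_bcSnd k E X
  haveI := EulerChar.isNoetherian k (X := X)
  obtain ⟨n, X', π, j₀, hj₀, hje, hπ, hsurj, -⟩ := S0025.result (X ↘ Spec (CommRingCat.of k))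
  haveI := hπ
  haveI := hj₀
  haveI := hsurj
  letI : X'.Over (Spec (CommRingCat.of k)) := ⟨π ≫ (X ↘ Spec (CommRingCat.of k))⟩
  haveI : IsProper (X' ↘ Spec (CommRingCat.of k)) :=
    inferInstanceAs (IsProper (π ≫ (X ↘ Spec (CommRingCat.of k))))
  haveI : IsProper (j₀ ≫ CohB1.ProjSpaceOver.toBase n (Spec (CommRingCat.of k))) := by
    rw [hje]; exact inferInstanceAs (IsProper (π ≫ (X ↘ Spec (CommRingCat.of k))))
  haveI := ProjProper.Basic.isProper_toBase n (Spec (CommRingCat.of k))
  haveI : IsProper j₀ := IsProper.of_comp j₀ (CohB1.ProjSpaceOver.toBase n (Spec (CommRingCat.of k)))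
  haveI : IsClosedImmersion j₀ := .of_isPreimmersion j₀ j₀.isClosedMap.isClosed_range
  have hA := Wt.AmpleThick.isAmple_pullback j₀ (ProjMorph.isAmple_twistOver (Y := Spec (CommRingCat.of k)) n)
  revert hA
  generalize (Scheme.Modules.pullback j₀).obj _ = A
  intro hA
  let L₁ := (Scheme.Modules.pullback π).obj L
  have hL₁ : PicF.IsInvertible L₁ := PicCl.isInvertible_pullback π hL
  have hnef₁ : Nef k X' L₁ := nef_pullback k π rfl hL h
  letI : (Curv2.bc k X' E).Over (Spec (CommRingCat.of E)) := ⟨Curv2.bcSnd k X' E⟩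
  haveI : IsProper (Curv2.bc k X' E ↘ Spec (CommRingCat.of E)) := isProper_bcSnd k E X'
  let g := Spec.map (CommRingCat.ofHom (algebraMap k E))
  haveI : IsAffineHom g := isAffineHom_of_isAffine _
  let q := Curv2.bcFst k X' E
  haveI : IsAffineHom q := MorphismProperty.pullback_fst _ _ inferInstance
  have t : IsPullback (Curv2.bcFst k X E) (Curv2.bcSnd k X E) (X ↘ Spec (CommRingCat.of k)) g :=
    IsPullback.of_hasPullback _ _
  have s : IsPullback q (Curv2.bcSnd k X' E) (π ≫ (X ↘ Spec (CommRingCat.of k))) g :=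
    IsPullback.of_hasPullback _ _
  have hq : IsPullback q _ π (Curv2.bcFst k X E) := IsPullback.of_bot' s t
  let πE := t.lift (q ≫ π) (Curv2.bcSnd k X' E) (by rw [Category.assoc, s.w])
  haveI : Surjective πE := MorphismProperty.of_isPullback hq inferInstance
  have hπE : πE ≫ (Curv2.bc k X E ↘ Spec (CommRingCat.of E)) = Curv2.bc k X' E ↘ Spec (CommRingCat.of E) :=
    t.lift_snd _ _ _
  let P := Scheme.Modules.pullback q
  have htw : ∀ ν : ℕ, 0 < ν → CohB1.IsAmple (CohB1.tensorMod (CohB1.tensorPow (P.obj L₁) ν) (P.obj A)) := by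
    intro ν hν
    obtain ⟨em⟩ := EulerFam.pullback_tensorPow q L₁ ν
    have h1 := isAmple_twist k hA hL₁ hnef₁ one_pos hν
    let e₁ : CohB1.tensorPow A 1 ≅ A := oneTens A
    have h2 := AmpleLib.isAmple_pullback_of_qaMor q (AmpleFam.Pullback.qaMor_of_isAffineHom q)
      (Props.AmpleFrames.isAmple_of_iso (tensCongr (Iso.refl _) e₁) h1)
    exact Props.AmpleFrames.isAmple_of_iso
      (KFlat.PullTensor.pullTensorIso q (CohB1.tensorPow L₁ ν) A ≪≫ tensCongr em (Iso.refl _)) h2
  haveI : CompactSpace (Curv2.bc k X' E) := EulerChar.compactSpace E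
  have hnefE : Nef E (Curv2.bc k X' E) (P.obj L₁) :=
    nef_of_curveDeg E (PicCl.isInvertible_pullback q hL₁) fun Y i hi hY hdY =>
      haveI := hi
      haveI := hY
      curveDeg_nonneg E (AmpleLib.isAmple_pullback_of_qaMor q (AmpleFam.Pullback.qaMor_of_isAffineHom q) hA)
        (PicCl.isInvertible_pullback q hL₁) htw Y i hdY
  have e : P.obj L₁ ≅ (Scheme.Modules.pullback πE).obj ((Scheme.Modules.pullback (Curv2.bcFst k X E)).obj L) :=
    (Scheme.Modules.pullbackComp q π).app L ≪≫
      (Scheme.Modules.pullbackCongr (t.lift_fst (q ≫ π) _ _).symm).app L ≪≫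
      ((Scheme.Modules.pullbackComp πE (Curv2.bcFst k X E)).app L).symm
  exact fun C hC hdim => haveI := hC
    BigVol.CurvePull.test_nonneg_of_surjective E πE hπE (PicCl.isInvertible_pullback _ hL)
      (nef_iso E e hnefE) C hdim

/-- Nef descends along an extension of the base field. -/
theorem nef_of_bc (X : Scheme.{u}) [X.Over (Spec (CommRingCat.of k))]
    [IsProper (X ↘ Spec (CommRingCat.of k))] {L : X.Modules} (hL : PicF.IsInvertible L)
    (h : @Nef E _ (Curv2.bc k X E) ⟨Curv2.bcSnd k X E⟩ ((Scheme.Modules.pullback (Curv2.bcFst k X E)).obj L)) :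
    Nef k X L := by
  intro C hC hdim
  letI : (Curv2.bc k X E).Over (Spec (CommRingCat.of E)) := ⟨Curv2.bcSnd k X E⟩
  haveI : IsProper (Curv2.bc k X E ↘ Spec (CommRingCat.of E)) := isProper_bcSnd k E X
  let ι := C.subschemeι
  letI : C.subscheme.Over (Spec (CommRingCat.of k)) := ⟨ι ≫ (X ↘ Spec (CommRingCat.of k))⟩
  haveI : IsProper (C.subscheme ↘ Spec (CommRingCat.of k)) :=
    inferInstanceAs (IsProper (ι ≫ (X ↘ Spec (CommRingCat.of k))))
  letI : (Curv2.bc k C.subscheme E).Over (Spec (CommRingCat.of E)) := ⟨Curv2.bcSnd k C.subscheme E⟩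
  haveI : IsProper (Curv2.bc k C.subscheme E ↘ Spec (CommRingCat.of E)) := isProper_bcSnd k E C.subscheme
  have hdC : topologicalKrullDim C.subscheme = 1 := by
    rw [IsHomeomorph.topologicalKrullDim_eq _ (ι.isEmbedding.toHomeomorph.trans
      (Homeomorph.setCongr C.range_subschemeι)).isHomeomorph]
    exact hdim
  have hw : (Curv2.bcFst k C.subscheme E ≫ ι) ≫ (X ↘ Spec (CommRingCat.of k)) =
      Curv2.bcSnd k C.subscheme E ≫ Spec.map (CommRingCat.ofHom (algebraMap k E)) := by
    rw [Category.assoc]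
    exact pullback.condition
  let ιE : Curv2.bc k C.subscheme E ⟶ Curv2.bc k X E := pullback.lift _ _ hw
  have hιE : ιE ≫ (Curv2.bc k X E ↘ Spec (CommRingCat.of E)) =
      Curv2.bc k C.subscheme E ↘ Spec (CommRingCat.of E) := pullback.lift_snd _ _ _
  have hι : PicF.IsInvertible ((Scheme.Modules.pullback ι).obj L) := PicCl.isInvertible_pullback ι hL
  have e : (Scheme.Modules.pullback ιE).obj ((Scheme.Modules.pullback (Curv2.bcFst k X E)).obj L) ≅
      (Scheme.Modules.pullback (Curv2.bcFst k C.subscheme E)).obj ((Scheme.Modules.pullback ι).obj L) :=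
    (Scheme.Modules.pullbackComp ιE (Curv2.bcFst k X E)).app L ≪≫
      (Scheme.Modules.pullbackCongr (pullback.lift_fst _ _ hw)).app L ≪≫
      ((Scheme.Modules.pullbackComp (Curv2.bcFst k C.subscheme E) ι).app L).symm
  have h1 : Nef E _ _ := nef_iso E e (nef_pullback E ιE hιE (PicCl.isInvertible_pullback _ hL) h)
  have h2 := S17276.result E (Curv2.bc k C.subscheme E) ((dim_bc k E C.subscheme).trans hdC) _
    (PicCl.isInvertible_pullback _ hι) h1
  rw [S7636.result k C.subscheme hdC.le E 1 _ (ProjTwist.isFinLocFreeOfRank_one hι)] at h2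
  rw [BigVol.CurveTest.euler_sub_eq_deg k C hL]
  exact h2

/-- A module with an inverse, both nef, is numerically trivial. -/
theorem isNumEquivZero_of_nef (X : Scheme.{u}) [X.Over (Spec (CommRingCat.of k))]
    [IsProper (X ↘ Spec (CommRingCat.of k))] {L L' : X.Modules} (hL : PicF.IsInvertible L)
    (hL' : PicF.IsInvertible L') (e : CohB1.tensorMod L L' ≅ Coh.structureModule X)
    (h : Nef k X L) (h' : Nef k X L') : Pic13.IsNumEquivZero k X L := by
  intro Y i _ hY hdY
  letI : Y.Over (Spec (CommRingCat.of k)) := ⟨i ≫ (X ↘ Spec (CommRingCat.of k))⟩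
  haveI : IsProper (Y ↘ Spec (CommRingCat.of k)) :=
    inferInstanceAs (IsProper (i ≫ (X ↘ Spec (CommRingCat.of k))))
  let A := (Scheme.Modules.pullback i).obj L
  let B := (Scheme.Modules.pullback i).obj L'
  have hA : PicF.IsInvertible A := PicCl.isInvertible_pullback i hL
  have hB : PicF.IsInvertible B := PicCl.isInvertible_pullback i hL'
  have h1 := S17276.result k Y hdY A hA (nef_pullback k i rfl hL h)
  have h2 := S17276.result k Y hdY B hB (nef_pullback k i rfl hL' h')
  have hsum : Curv2.deg k Y (CohB1.tensorMod A B) (1 * 1) =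
      (1 : ℕ) * Curv2.deg k Y B 1 + (1 : ℕ) * Curv2.deg k Y A 1 :=
    EulerChar.deg_tens k (ProjTwist.isFinLocFreeOfRank_one hA) hdY.le (ProjTwist.isFinLocFreeOfRank_one hB)
  have eAB : CohB1.tensorMod A B ≅ Coh.structureModule Y := (KFlat.PullTensor.pullTensorIso i L L').symm ≪≫
    (Scheme.Modules.pullback i).mapIso e ≪≫ QCoh.pullbackUnitIso i
  rw [EulerChar.deg_iso k eAB] at hsum
  have hO : Curv2.deg k Y (Coh.structureModule Y) (1 * 1) = 0 := by simp [Curv2.deg]
  rw [hO, Nat.cast_one, one_mul, one_mul] at hsum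
  have hd : topologicalKrullDim Y ≤ ((1 : ℕ) : WithBot ℕ∞) := by rw [hdY]; simp
  rw [Pic13.curveDeg, Snapper.eulerCharLE_eq k (X := Y) hd, Snapper.eulerCharLE_eq k (X := Y) hd]
  have hA0 : Curv2.deg k Y A 1 = 0 := by omega
  simpa [Curv2.deg] using hA0

theorem nef_of_isNumEquivZero (X : Scheme.{u}) [X.Over (Spec (CommRingCat.of k))]
    [IsProper (X ↘ Spec (CommRingCat.of k))] {L L' : X.Modules} (hL : PicF.IsInvertible L)
    (hL' : PicF.IsInvertible L') (e : CohB1.tensorMod L L' ≅ Coh.structureModule X)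
    (h : Pic13.IsNumEquivZero k X L) : Nef k X L ∧ Nef k X L' :=
  have h1 := NumTriv.num1_of_isNumEquivZero k hL h
  ⟨NumTriv.AnyField.nef_of_num1 h1,
    NumTriv.AnyField.nef_of_num1 (NumTriv.num1_of_inverse k h1 hL' (tensComm L' L ≪≫ e))⟩

/-- Numerical triviality is insensitive to extension of the base field. -/
theorem isNumEquivZero_iff (X : Scheme.{u}) [X.Over (Spec (CommRingCat.of k))]
    [IsProper (X ↘ Spec (CommRingCat.of k))] {L : X.Modules} (hL : PicF.IsInvertible L) :
    Pic13.IsNumEquivZero k X L ↔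
      @Pic13.IsNumEquivZero E _ (Curv2.bc k X E) ⟨Curv2.bcSnd k X E⟩
        ((Scheme.Modules.pullback (Curv2.bcFst k X E)).obj L) := by
  letI : (Curv2.bc k X E).Over (Spec (CommRingCat.of E)) := ⟨Curv2.bcSnd k X E⟩
  haveI : IsProper (Curv2.bc k X E ↘ Spec (CommRingCat.of E)) := isProper_bcSnd k E X
  obtain ⟨L', hL', ⟨e⟩⟩ := PicLaw.exists_inverse hL
  let p := Curv2.bcFst k X E
  have hP := PicCl.isInvertible_pullback p hL
  have hP' := PicCl.isInvertible_pullback p hL'
  let e' := (KFlat.PullTensor.pullTensorIso p L L').symm ≪≫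
    (Scheme.Modules.pullback p).mapIso e ≪≫ QCoh.pullbackUnitIso p
  constructor <;> intro h
  · obtain ⟨h1, h2⟩ := nef_of_isNumEquivZero k X hL hL' e h
    exact isNumEquivZero_of_nef E _ hP hP' e' (nef_bc k E X hL h1) (nef_bc k E X hL' h2)
  · obtain ⟨h1, h2⟩ := nef_of_isNumEquivZero E _ hP hP' e' h
    exact isNumEquivZero_of_nef k X hL hL' e (nef_of_bc k E X hL h1) (nef_of_bc k E X hL' h2)

end Groth.Agent.CohBase.NefBC
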