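import Groth.Prelude.Def_CohBC2
import Groth.Agent.CohAff.ResOps
import Groth.Agent.ModShf.Flasque
import Groth.Agent.CohBase.PushEdge

/-!
# Higher direct images of composites with an affine morphism
-/

universe u

open CategoryTheory CategoryTheory.Limits AlgebraicGeometry TopologicalSpace Opposite

namespace Groth.Agent.CohBase.PushComp

open Groth.Agent.CohAff (FRes fresOf)

variable {X Y Z : Scheme.{u}} (f : X ⟶ Y) (g : Y ⟶ Z)

/-- Comparison of the model of `R(f ≫ g)_*` with `g_*` of the model of `Rf_*`. -/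
noncomputable def rcComp (R : FRes X) (n : ℕ) :
    R.Rc (f ≫ g) n ⟶ (Scheme.Modules.pushforward g).obj (R.Rc f n) :=
  cokernel.desc (R.pP (f ≫ g) n) ((Scheme.Modules.pushforwardComp f g).inv.app (R.Z (n + 1)) ≫
    (Scheme.Modules.pushforward g).map (cokernel.π (R.pP f n))) (by
      rw [← Category.assoc]
      erw [(Scheme.Modules.pushforwardComp f g).inv.naturality (R.p n)]
      rw [Category.assoc]
      have h : (Scheme.Modules.pushforward g).map (R.pP f n) ≫
          (Scheme.Modules.pushforward g).map (cokernel.π (R.pP f n)) = 0 := by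
        rw [← Functor.map_comp, cokernel.condition, Functor.map_zero]
      exact (congrArg (_ ≫ ·) h).trans comp_zero)

lemma rcComp_π' (R : FRes X) (n : ℕ) (V : Z.Opens) (x : Γ(R.Z (n + 1), (f ≫ g) ⁻¹ᵁ V)) :
    (rcComp f g R n).app V (R.π' (f ≫ g) n V x) = R.π' f n (g ⁻¹ᵁ V) x := by
  change ((cokernel.π (R.pP (f ≫ g) n) ≫ rcComp f g R n).app V) x = _
  rw [rcComp, cokernel.π_desc]
  rfl

theorem isIso_rcComp [QuasiCompact f] [QuasiSeparated f] [IsAffineHom g] (R : FRes X)
    [(R.Z 0).IsQuasicoherent] (n : ℕ) : IsIso (rcComp f g R n) := by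
  have : QuasiSeparated g := inferInstance
  refine CohAff.isIso_of_affine_bijective _ fun V hV => ⟨?_, ?_⟩
  · refine (injective_iff_map_eq_zero _).2 fun r hr => ?_
    obtain ⟨x, rfl⟩ := R.π'_surjective (f ≫ g) hV n r
    rw [rcComp_π'] at hr
    exact R.π'_eq_zero_of_ex (f ≫ g) n (R.ex_of_π'_eq_zero f (hV.preimage g) n x hr)
  · intro r
    obtain ⟨x, rfl⟩ := R.π'_surjective f (hV.preimage g) n r
    exact ⟨R.π' (f ≫ g) n V x, rcComp_π' f g R n V x⟩

section Abstract

universe v v' w w'

variable {B : Type w} [Category.{v} B] [Abelian B] {C : Type w'} [Category.{v'} C] [Abelian C]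
  (Ψ : B ⥤ C) [Ψ.Additive] [PreservesFiniteLimits Ψ]

lemma isIso_π_of_eq_zero {D : Type w'} [Category.{v'} D] [Abelian D] {A A' : D} {φ : A ⟶ A'} (h : φ = 0) :
    IsIso (cokernel.π φ) := by
  subst h
  infer_instance

/-- A left exact functor preserving the cokernel of the boundary map preserves homology. -/
theorem isIso_homologyComparison (K : CochainComplex B ℕ) (q : ℕ)
    (h : PreservesColimit (parallelPair (K.toCycles ((ComplexShape.up ℕ).prev q) q) 0) Ψ) :
    IsIso (RDer.homologyComparison Ψ K q) := by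
  let ΨK := (Ψ.mapHomologicalComplex _).obj K
  let p := (ComplexShape.up ℕ).prev q
  let cc : IsColimit (CokernelCofork.ofπ (Ψ.map (K.homologyπ q))
      (show Ψ.map (K.toCycles p q) ≫ Ψ.map (K.homologyπ q) = 0 by
        rw [← Ψ.map_comp, HomologicalComplex.toCycles_comp_homologyπ, Ψ.map_zero])) :=
    isColimitCoforkMapOfIsColimit' Ψ _ (K.homologyIsCokernel p q rfl)
  let hk := KernelFork.mapIsLimit _ (K.cyclesIsKernel q ((ComplexShape.up ℕ).next q) rfl) Ψ
  let e := IsLimit.conePointUniqueUpToIso (ΨK.cyclesIsKernel q ((ComplexShape.up ℕ).next q) rfl) hk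
  have he : e.hom = RDer.cyclesComparison Ψ K q := by
    refine Fork.IsLimit.hom_ext hk ?_
    exact (IsLimit.conePointUniqueUpToIso_hom_comp _ hk WalkingParallelPair.zero).trans
      (RDer.cyclesComparison_i Ψ K q).symm
  have : IsIso (RDer.cyclesComparison Ψ K q) := he ▸ inferInstance
  have hw : Ψ.map (K.toCycles p q) ≫ inv (RDer.cyclesComparison Ψ K q) ≫ ΨK.homologyπ q = 0 := by
    rw [← RDer.toCycles_cyclesComparison]
    exact (Category.assoc _ _ _).trans ((congrArg (_ ≫ ·) (IsIso.hom_inv_id_assoc _ _)).trans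
      (HomologicalComplex.toCycles_comp_homologyπ _ _ _))
  let b : Ψ.obj (K.homology q) ⟶ ΨK.homology q :=
    cc.desc (CokernelCofork.ofπ (inv (RDer.cyclesComparison Ψ K q) ≫ ΨK.homologyπ q) hw)
  have hb : Ψ.map (K.homologyπ q) ≫ b = inv (RDer.cyclesComparison Ψ K q) ≫ ΨK.homologyπ q :=
    cc.fac _ WalkingParallelPair.one
  refine ⟨b, ?_, ?_⟩
  · rw [← cancel_epi (ΨK.homologyπ q), RDer.homologyπ_homologyComparison_assoc, hb,
      IsIso.hom_inv_id_assoc, Category.comp_id]
  · refine Cofork.IsColimit.hom_ext cc ?_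
    change Ψ.map (K.homologyπ q) ≫ b ≫ RDer.homologyComparison Ψ K q = Ψ.map (K.homologyπ q) ≫ 𝟙 _
    rw [reassoc_of% hb, RDer.homologyπ_homologyComparison, IsIso.inv_hom_id_assoc, Category.comp_id]

theorem preservesCokernel_zero (A A' : B) : PreservesColimit (parallelPair (0 : A ⟶ A') 0) Ψ := by
  have : IsIso (cokernelComparison (0 : A ⟶ A') Ψ) := by
    have hz : Ψ.map (0 : A ⟶ A') = 0 := Ψ.map_zero _ _
    have h1 : IsIso (cokernel.π (0 : A ⟶ A')) := inferInstance
    have h2 : IsIso (cokernel.π (Ψ.map (0 : A ⟶ A'))) := isIso_π_of_eq_zero hz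
    have h3 : cokernel.π (Ψ.map (0 : A ⟶ A')) ≫ cokernelComparison (0 : A ⟶ A') Ψ =
      Ψ.map (cokernel.π (0 : A ⟶ A')) := π_comp_cokernelComparison _ _
    exact IsIso.of_isIso_fac_left h3
  exact PreservesCokernel.of_iso_comparison Ψ _

end Abstract

/-- An affine morphism preserves the cokernels computing higher direct images. -/
theorem preservesCokernel_pP [QuasiCompact f] [QuasiSeparated f] [IsAffineHom g] (R : FRes X)
    [(R.Z 0).IsQuasicoherent] (n : ℕ) :
    PreservesColimit (parallelPair (R.pP f n) 0) (Scheme.Modules.pushforward g) := by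
  have := isIso_rcComp f g R n
  let a := cokernel.mapIso ((Scheme.Modules.pushforward g).map (R.pP f n)) (R.pP (f ≫ g) n)
    ((Scheme.Modules.pushforwardComp f g).app (R.J n))
    ((Scheme.Modules.pushforwardComp f g).app (R.Z (n + 1)))
    ((Scheme.Modules.pushforwardComp f g).hom.naturality (R.p n))
  have h : cokernelComparison (R.pP f n) (Scheme.Modules.pushforward g) = a.hom ≫ rcComp f g R n := by
    apply coequalizer.hom_ext
    change cokernel.π _ ≫ cokernelComparison _ _ = cokernel.π _ ≫ a.hom ≫ rcComp f g R n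
    rw [π_comp_cokernelComparison]
    simp only [a, cokernel.mapIso_hom, cokernel.π_desc_assoc, Category.assoc, rcComp, cokernel.π_desc]
    exact (Iso.hom_inv_id_assoc ((Scheme.Modules.pushforwardComp f g).app (R.Z (n + 1))) _).symm
  have : IsIso (cokernelComparison (R.pP f n) (Scheme.Modules.pushforward g)) := h ▸ inferInstance
  exact PreservesCokernel.of_iso_comparison _ _

/-- The edge map out is an isomorphism for an affine second morphism. -/
theorem isIso_homologyComparison_push [HasInjectiveResolutions X.Modules] [QuasiCompact f]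
    [QuasiSeparated f] [IsAffineHom g] {M : X.Modules} [M.IsQuasicoherent] (I : InjectiveResolution M)
    (q : ℕ) :
    IsIso (RDer.homologyComparison (Scheme.Modules.pushforward g)
      (((Scheme.Modules.pushforward f).mapHomologicalComplex (ComplexShape.up ℕ)).obj I.cocomplex) q) := by
  refine isIso_homologyComparison _ _ q ?_
  let F := Scheme.Modules.pushforward f
  let K := (F.mapHomologicalComplex (ComplexShape.up ℕ)).obj I.cocomplex
  change PreservesColimit (parallelPair (K.toCycles _ q) 0) _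
  cases q with
  | zero =>
    have h0 : K.toCycles ((ComplexShape.up ℕ).prev 0) 0 = 0 := by
      rw [← cancel_mono (K.iCycles 0), HomologicalComplex.toCycles_i, zero_comp]
      exact K.shape _ _ (by simp)
    rw [h0]
    exact preservesCokernel_zero _ _ _
  | succ n =>
    rw [CochainComplex.prev_nat_succ]
    let hk : IsLimit (KernelFork.ofι (F.map (I.cocomplex.iCycles (n + 1)))
        (show F.map (I.cocomplex.iCycles (n + 1)) ≫ K.d (n + 1) (n + 2) = 0 by
          change F.map _ ≫ F.map _ = 0
          rw [← F.map_comp, HomologicalComplex.iCycles_d, F.map_zero])) :=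
      KernelFork.mapIsLimit _ (I.cocomplex.cyclesIsKernel (n + 1) (n + 2) (by simp)) F
    let e : K.cycles (n + 1) ≅ F.obj (I.cocomplex.cycles (n + 1)) :=
      IsLimit.conePointUniqueUpToIso (K.cyclesIsKernel (n + 1) (n + 2) (by simp)) hk
    have he : K.toCycles n (n + 1) ≫ e.hom = 𝟙 _ ≫ (fresOf I).pP f n := by
      refine Fork.IsLimit.hom_ext hk ?_
      have h1 : e.hom ≫ F.map (I.cocomplex.iCycles (n + 1)) = K.iCycles (n + 1) :=
        IsLimit.conePointUniqueUpToIso_hom_comp (K.cyclesIsKernel (n + 1) (n + 2) (by simp)) hk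
          WalkingParallelPair.zero
      change (K.toCycles n (n + 1) ≫ e.hom) ≫ F.map (I.cocomplex.iCycles (n + 1)) = _
      refine (Category.assoc _ _ _).trans ((congrArg (K.toCycles n (n + 1) ≫ ·) h1).trans ?_)
      refine (HomologicalComplex.toCycles_i K n (n + 1)).trans ?_
      change F.map (I.cocomplex.d n (n + 1)) = _
      rw [Category.id_comp, ← HomologicalComplex.toCycles_i I.cocomplex n (n + 1), F.map_comp]
      rfl
    have := CohAff.fresOf_isQuasicoherent I
    have := preservesCokernel_pP f g (fresOf I) n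
    exact preservesColimit_of_iso_diagram _
      (parallelPair.ext (Iso.refl _) e he (by simp) : parallelPair (K.toCycles n (n + 1)) 0 ≅
        parallelPair ((fresOf I).pP f n) 0).symm

theorem isIso_lerayEdgeOut [QuasiCompact f] [QuasiSeparated f] [IsAffineHom g]
    [HasInjectiveResolutions X.Modules] (M : X.Modules) [M.IsQuasicoherent] (q : ℕ) :
    IsIso (CohBC.lerayEdgeOut f g q M) := by
  have := isIso_homologyComparison_push f g (injectiveResolution M) q
  have h2 : IsIso (RDer.edgeOut (Scheme.Modules.pushforward f) (Scheme.Modules.pushforward g) q M) :=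
    IsIso.comp_isIso' (Iso.isIso_hom _) (IsIso.comp_isIso' this inferInstance)
  exact IsIso.comp_isIso' inferInstance h2

/-- `R(f ≫ g)_* ≅ g_* Rf_*` on underlying abelian sheaves, for affine `g`. -/
theorem nonempty_iso_affine_base [QuasiCompact f] [QuasiSeparated f] [IsAffineHom g]
    (F : X.Modules) [F.IsQuasicoherent] (p : ℕ) :
    Nonempty ((Coh.RpushAb (f ≫ g) p).obj (Coh.toAb F) ≅
      (Coh.pushAb g).obj ((Coh.RpushAb f p).obj (Coh.toAb F))) := by
  have := isIso_lerayEdgeOut f g F p
  exact ⟨((ModShf.rpushCompToAb (f ≫ g) p).app F).symm ≪≫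
    (ModShf.toAbFunctor Z).mapIso (asIso (CohBC.lerayEdgeOut f g p F)) ≪≫
    (Coh.pushAb g).mapIso ((ModShf.rpushCompToAb f p).app F)⟩

/-- `R g_* (f_* F) ≅ R(f ≫ g)_* F` on underlying abelian sheaves, for affine `f`. -/
theorem nonempty_iso_affine [IsAffineHom f] (F : X.Modules) [F.IsQuasicoherent] (p : ℕ) :
    Nonempty ((Coh.RpushAb g p).obj (Coh.toAb ((Coh.push f).obj F)) ≅
      (Coh.RpushAb (f ≫ g) p).obj (Coh.toAb F)) := by
  let I := injectiveResolution F
  let Pf := Scheme.Modules.pushforward f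
  let TY := ModShf.toAbFunctor Y
  let K := ((Pf ⋙ TY).mapHomologicalComplex (ComplexShape.up ℕ)).obj I.cocomplex
  let ι : (CochainComplex.single₀ _).obj (TY.obj (Pf.obj F)) ⟶ K :=
    (HomologicalComplex.singleMapHomologicalComplex (Pf ⋙ TY) (ComplexShape.up ℕ) 0).inv.app F ≫
      ((Pf ⋙ TY).mapHomologicalComplex (ComplexShape.up ℕ)).map I.ι
  have hs : ∀ n, K.ExactAt (n + 1) := fun n => by
    rw [HomologicalComplex.exactAt_iff]
    have h1 : IsZero (((Pf.mapHomologicalComplex (ComplexShape.up ℕ)).obj I.cocomplex).homology (n + 1)) :=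
      IsZero.of_iso (Groth.Agent.CohBase.PushEdge.isZero_Rpush_of_isAffineHom f F n)
        (I.isoRightDerivedObj Pf (n + 1)).symm
    exact ((HomologicalComplex.exactAt_iff _ _).1
      ((HomologicalComplex.exactAt_iff_isZero_homology _ _).2 h1)).map TY
  have hqi : QuasiIso ι := ⟨fun n => by
    cases n with
    | zero =>
      rw [CochainComplex.quasiIsoAt₀_iff, ShortComplex.quasiIso_iff_of_zeros]
      · have hG : PreservesFiniteLimits (Pf ⋙ TY) := comp_preservesFiniteLimits Pf TY
        have hm : Mono (ShortComplex.mk _ _ I.ι_f_zero_comp_complex_d).f := inferInstanceAs (Mono (I.ι.f 0))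
        have h0 : ((ShortComplex.mk _ _ I.ι_f_zero_comp_complex_d).map (Pf ⋙ TY)).Exact ∧
            Mono ((ShortComplex.mk _ _ I.ι_f_zero_comp_complex_d).map (Pf ⋙ TY)).f :=
          ⟨I.exact₀.map_of_mono_of_preservesKernel _ hm inferInstance,
            inferInstanceAs (Mono ((Pf ⋙ TY).map (I.ι.f 0)))⟩
        refine (ShortComplex.exact_and_mono_f_iff_of_iso ?_).2 h0
        refine ShortComplex.isoMk (HomologicalComplex.singleObjXSelf (ComplexShape.up ℕ) 0 _ ≪≫
          (Pf ⋙ TY).mapIso (HomologicalComplex.singleObjXSelf (ComplexShape.up ℕ) 0 F).symm)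
          (Iso.refl _) (Iso.refl _) ?_ ?_
        · simp [ι, K, HomologicalComplex.singleMapHomologicalComplex_inv_app_self]
          exact congrArg (𝟙 _ ≫ ·) (Category.comp_id _).symm
        · simp [K]
          exact (Category.id_comp _).trans (Category.comp_id _).symm
      all_goals (simp [K] <;> rfl)
    | succ n =>
      rw [quasiIsoAt_iff_exactAt _ _ (CochainComplex.exactAt_succ_single_obj _ _)]
      exact hs n⟩
  let R : ModShf.AcyclicRes.Res (TY.obj (Pf.obj F)) := ⟨K, ι, hqi⟩
  have hflq : ∀ m, TopCat.Sheaf.IsFlasque (X := Y.toTopCat) (R.K.X m) := fun m =>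
    CohAff.isFlasque_push f (ModShf.isFlasque_toAb_of_injective _ (I.injective m))
  let J := injectiveResolution (TY.obj (Pf.obj F))
  have := ModShf.AcyclicRes.quasiIso_map_desc (ModShf.flasque_goodClass g.base) R hflq J
  have hp : IsIso (HomologicalComplex.homologyMap
      (((Coh.pushAb g).mapHomologicalComplex (ComplexShape.up ℕ)).map (R.desc (𝟙 _) J)) p) :=
    (quasiIsoAt_iff_isIso_homologyMap _ p).1 (this.quasiIsoAt p)
  let e₁ := (asIso (HomologicalComplex.homologyMap
    (((Coh.pushAb g).mapHomologicalComplex (ComplexShape.up ℕ)).map (R.desc (𝟙 _) J)) p)).symm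
  let η : (Pf ⋙ TY) ⋙ Coh.pushAb g ≅ ModShf.toAbFunctor X ⋙ Coh.pushAb (f ≫ g) :=
    NatIso.ofComponents fun M => Iso.refl _
  let e₂ := (HomologicalComplex.homologyFunctor _ _ p).mapIso
    ((NatIso.mapHomologicalComplex η (ComplexShape.up ℕ)).app I.cocomplex)
  exact ⟨J.isoRightDerivedObj (Coh.pushAb g) p ≪≫ e₁ ≪≫ e₂ ≪≫
    (I.isoRightDerivedObj (ModShf.toAbFunctor X ⋙ Coh.pushAb (f ≫ g)) p).symm ≪≫
    (ModShf.AcyclicRes.compareIso (ModShf.toAbFunctor X) (Coh.pushAb (f ≫ g))
      (ModShf.flasque_goodClass (f ≫ g).base) (fun M hM => ModShf.isFlasque_toAb_of_injective M hM) p).app F⟩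

end Groth.Agent.CohBase.PushComp
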