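import Groth.Prelude.Def_RDerDelta
import Groth.Agent.CohAff.PushCoh

/-!
# An abstract cohomology theory over opens, and comparisons with higher direct images

The kernel unfolds the concrete `Sheaf.H` over an open subscheme at great cost, so the arguments are
made for an abstract family of groups and instantiated once (`Groth.Agent.CohBase.HonTheory`).
-/

universe u

open CategoryTheory CategoryTheory.Limits AlgebraicGeometry TopologicalSpace Opposite

namespace Groth.Agent.CohBase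

local notation "rs" => Groth.Agent.QCoh.res

open Groth.Agent.CohAff (FRes)

variable {X Y : Scheme.{u}}

/-- Cohomology over all opens of `X`, with restriction and connecting maps. -/
structure CohTheory (X : Scheme.{u}) where
  /-- the groups -/
  H : X.Opens → X.Modules → ℕ → Type u
  [grp : ∀ U F p, AddCommGroup (H U F p)]
  /-- functoriality -/
  map : ∀ (U : X.Opens) {F G : X.Modules}, (F ⟶ G) → ∀ p, H U F p →+ H U G p
  /-- restriction -/
  res : ∀ (F : X.Modules) {U U' : X.Opens}, U' ≤ U → ∀ p, H U F p →+ H U' F p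
  /-- connecting maps -/
  δ : ∀ (U : X.Opens) {S : ShortComplex X.Modules}, S.ShortExact → ∀ p, H U S.X₃ p →+ H U S.X₁ (p + 1)
  /-- degree zero -/
  sec : ∀ (F : X.Modules) (U : X.Opens), Γ(F, U) ≃+ H U F 0
  subsingleton_of_flasque : ∀ (U : X.Opens) (F : X.Modules),
    TopCat.Sheaf.IsFlasque (X := X.toTopCat) (Coh.toAb F) → ∀ p, Subsingleton (H U F (p + 1))
  exists_of_map_eq_zero : ∀ (U : X.Opens) {S : ShortComplex X.Modules} (hS : S.ShortExact) (p : ℕ)
    (x : H U S.X₁ (p + 1)), map U S.f (p + 1) x = 0 → ∃ y, δ U hS p y = x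
  exists_of_δ_eq_zero : ∀ (U : X.Opens) {S : ShortComplex X.Modules} (hS : S.ShortExact) (p : ℕ)
    (x : H U S.X₃ p), δ U hS p x = 0 → ∃ y, map U S.g p y = x
  δ_map : ∀ (U : X.Opens) {S : ShortComplex X.Modules} (hS : S.ShortExact) (p : ℕ) (y : H U S.X₂ p),
    δ U hS p (map U S.g p y) = 0
  map_sec : ∀ (U : X.Opens) {F G : X.Modules} (ψ : F ⟶ G) (s : Γ(F, U)),
    map U ψ 0 (sec F U s) = sec G U (ψ.app U s)
  res_sec : ∀ (F : X.Modules) {U U' : X.Opens} (h : U' ≤ U) (s : Γ(F, U)),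
    res F h 0 (sec F U s) = sec F U' (rs F h s)
  res_map : ∀ {F G : X.Modules} (ψ : F ⟶ G) {U U' : X.Opens} (h : U' ≤ U) (p : ℕ) (x : H U F p),
    res G h p (map U ψ p x) = map U' ψ p (res F h p x)
  res_δ : ∀ {S : ShortComplex X.Modules} (hS : S.ShortExact) {U U' : X.Opens} (h : U' ≤ U) (p : ℕ)
    (x : H U S.X₃ p), res S.X₁ h (p + 1) (δ U hS p x) = δ U' hS p (res S.X₃ h p x)

attribute [instance] CohTheory.grp

/-- Every module is the left end of a short exact sequence with injective middle term. -/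
lemma exists_embedding_mod (F : X.Modules) :
    ∃ S : ShortComplex X.Modules, S.X₁ = F ∧ S.ShortExact ∧ Injective S.X₂ := by
  refine ⟨ShortComplex.mk (Injective.ι F) (cokernel.π (Injective.ι F)) (cokernel.condition _), rfl,
    ?_, inferInstance⟩
  exact ShortComplex.ShortExact.mk' (ShortComplex.exact_of_g_is_cokernel _ (cokernelIsCokernel _))
    inferInstance inferInstance

/-- Sections killed by the second map of an exact sequence come locally from the first term. -/
lemma exists_locally_of_exact (S : ShortComplex Y.Modules) (hS : S.Exact) (V : Y.Opens)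
    (s : Γ(S.X₂, V)) (hs : S.g.app V s = 0) (y : Y) (hy : y ∈ V) :
    ∃ (W : Y.Opens) (hW : W ≤ V), y ∈ W ∧ ∃ t, S.f.app W t = rs S.X₂ hW s := by
  have : Epi S.toCycles := hS.epi_toCycles
  obtain ⟨z, hz⟩ := QCoh.exists_app_eq_of_app_eq_zero (ShortComplex.mk S.iCycles S.g S.iCycles_g)
    (ShortComplex.exact_of_f_is_kernel _ S.cyclesIsKernel) V s hs
  obtain ⟨W, hW, hyW, t, ht⟩ := QCoh.exists_locally_app_eq S.toCycles V z y hy
  refine ⟨W, hW, hyW, t, ?_⟩
  rw [← S.toCycles_i, Scheme.Modules.Hom.comp_app, ConcreteCategory.comp_apply, ht, QCoh.app_res]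
  exact congrArg (rs S.X₂ hW) hz

/-- The resolution of the first cocycles. -/
noncomputable def tailRes (R : FRes X) : FRes X where
  Z n := R.Z (n + 1)
  J n := R.J (n + 1)
  ι n := R.ι (n + 1)
  p n := R.p (n + 1)
  w n := R.w (n + 1)
  exact n := R.exact (n + 1)
  flasque n := R.flasque (n + 1)

namespace CohTheory

variable (T : CohTheory X)

lemma δ_surjective (U : X.Opens) {S : ShortComplex X.Modules} (hS : S.ShortExact)
    (h : TopCat.Sheaf.IsFlasque (X := X.toTopCat) (Coh.toAb S.X₂)) (p : ℕ) :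
    Function.Surjective (T.δ U hS p) := fun x =>
  T.exists_of_map_eq_zero U hS p x (@Subsingleton.elim _ (T.subsingleton_of_flasque U S.X₂ h p) _ _)

lemma δ_surjective_of_injective (U : X.Opens) {S : ShortComplex X.Modules} (hS : S.ShortExact)
    (h : Injective S.X₂) (p : ℕ) : Function.Surjective (T.δ U hS p) :=
  T.δ_surjective U hS (ModShf.isFlasque_toAb_of_injective _ h) p

lemma δ_injective (U : X.Opens) {S : ShortComplex X.Modules} (hS : S.ShortExact)
    (h : TopCat.Sheaf.IsFlasque (X := X.toTopCat) (Coh.toAb S.X₂)) (p : ℕ) :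
    Function.Injective (T.δ U hS (p + 1)) := by
  refine (injective_iff_map_eq_zero _).2 fun x hx => ?_
  obtain ⟨y, rfl⟩ := T.exists_of_δ_eq_zero U hS _ x hx
  rw [@Subsingleton.elim _ (T.subsingleton_of_flasque U S.X₂ h p) y 0, map_zero]

/-- Restriction is transitive. -/
theorem res_res : ∀ (p : ℕ) (F : X.Modules) {U U' U'' : X.Opens} (h : U' ≤ U) (h' : U'' ≤ U')
    (x : T.H U F p), T.res F h' p (T.res F h p x) = T.res F (h'.trans h) p x := by
  intro p
  induction p with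
  | zero =>
    intro F U U' U'' h h' x
    obtain ⟨s, rfl⟩ := (T.sec F U).surjective x
    rw [T.res_sec, T.res_sec, T.res_sec, QCoh.res_res]
  | succ p ih =>
    intro F U U' U'' h h' x
    obtain ⟨S, rfl, hS, hI⟩ := exists_embedding_mod F
    obtain ⟨z, rfl⟩ := T.δ_surjective_of_injective U hS hI p x
    rw [T.res_δ, T.res_δ, T.res_δ, ih]

/-- The class over `U` of a cocycle. -/
noncomputable def cls : ∀ (n : ℕ) (R : FRes X) (U : X.Opens), Γ(R.Z n, U) →+ T.H U (R.Z 0) n
  | 0, R, U => (T.sec (R.Z 0) U).toAddMonoidHom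
  | n + 1, R, U => (T.δ U (R.exact 0) n).comp (cls n (tailRes R) U)

lemma cls_succ (n : ℕ) (R : FRes X) (U : X.Opens) (z : Γ(R.Z (n + 1), U)) :
    T.cls (n + 1) R U z = T.δ U (R.exact 0) n (T.cls n (tailRes R) U z) := rfl

lemma cls_surjective : ∀ (n : ℕ) (R : FRes X) (U : X.Opens), Function.Surjective (T.cls n R U)
  | 0, R, U => (T.sec (R.Z 0) U).surjective
  | n + 1, R, U => (T.δ_surjective U (R.exact 0) (R.flasque 0) n).comp (cls_surjective n (tailRes R) U)

lemma cls_eq_zero_iff : ∀ (n : ℕ) (R : FRes X) (U : X.Opens) (z : Γ(R.Z n, U)),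
    T.cls n R U z = 0 ↔ R.Ex n U z
  | 0, R, U, z => (T.sec (R.Z 0) U).map_eq_zero_iff
  | 1, R, U, z => by
    rw [cls_succ]
    constructor
    · intro h
      obtain ⟨y, hy⟩ := T.exists_of_δ_eq_zero U (R.exact 0) _ _ h
      obtain ⟨a, rfl⟩ := (T.sec (R.J 0) U).surjective y
      exact ⟨a, (T.sec (R.Z 1) U).injective ((T.map_sec U (R.p 0) a).symm.trans hy)⟩
    · rintro ⟨a, rfl⟩
      exact (congrArg (T.δ U (R.exact 0) 0) (T.map_sec U (R.p 0) a).symm).trans (T.δ_map U (R.exact 0) 0 _)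
  | n + 2, R, U, z => by
    rw [cls_succ, map_eq_zero_iff _ (T.δ_injective U (R.exact 0) (R.flasque 0) n)]
    exact cls_eq_zero_iff (n + 1) (tailRes R) U z

lemma cls_res : ∀ (n : ℕ) (R : FRes X) {U U' : X.Opens} (h : U' ≤ U) (z : Γ(R.Z n, U)),
    T.res (R.Z 0) h n (T.cls n R U z) = T.cls n R U' (rs (R.Z n) h z)
  | 0, R, U, U', h, z => T.res_sec _ h z
  | n + 1, R, U, U', h, z => by
    rw [cls_succ, cls_succ]
    exact (T.res_δ (R.exact 0) h n _).trans (congrArg _ (cls_res n (tailRes R) h z))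

end CohTheory

/-- A comparison with the higher direct images. -/
structure Cmp (T : CohTheory X) (f : X ⟶ Y) [HasInjectiveResolutions X.Modules]
    (Δ : RDer.DerivedLES (Scheme.Modules.pushforward f)) where
  /-- the maps -/
  ε : ∀ (V : Y.Opens) (F : X.Modules) (p : ℕ),
    T.H (f ⁻¹ᵁ V) F p →+ Γ((Coh.Rpush f p).obj F, V)
  zero : ∀ (V : Y.Opens) (F : X.Modules) (s : Γ(F, f ⁻¹ᵁ V)),
    ε V F 0 (T.sec F (f ⁻¹ᵁ V) s) = ((Scheme.Modules.pushforward f).toRightDerivedZero.app F).app V s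
  natural : ∀ (V : Y.Opens) {F G : X.Modules} (ψ : F ⟶ G) (p : ℕ) (x : T.H (f ⁻¹ᵁ V) F p),
    ε V G p (T.map (f ⁻¹ᵁ V) ψ p x) = ((Coh.Rpush f p).map ψ).app V (ε V F p x)
  delta : ∀ (V : Y.Opens) (S : ShortComplex X.Modules) (hS : S.ShortExact) (p : ℕ)
    (x : T.H (f ⁻¹ᵁ V) S.X₃ p),
    ε V S.X₁ (p + 1) (T.δ (f ⁻¹ᵁ V) hS p x) = (Δ.δ S hS p (p + 1) rfl).app V (ε V S.X₃ p x)

namespace Cmp

variable {T : CohTheory X} {f : X ⟶ Y} [HasInjectiveResolutions X.Modules]
  {Δ : RDer.DerivedLES (Scheme.Modules.pushforward f)} (E : Cmp T f Δ)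

lemma zero_bijective (V : Y.Opens) (F : X.Modules) : Function.Bijective (E.ε V F 0) := by
  have hiso : IsIso (((Scheme.Modules.pushforward f).toRightDerivedZero.app F).app V) :=
    Functor.map_isIso (Scheme.Modules.toPresheaf Y ⋙ (evaluation _ _).obj (op V))
      ((Scheme.Modules.pushforward f).toRightDerivedZero.app F)
  have hb := ConcreteCategory.bijective_of_isIso
    (((Scheme.Modules.pushforward f).toRightDerivedZero.app F).app V)
  constructor
  · intro a b h
    obtain ⟨a, rfl⟩ := (T.sec F (f ⁻¹ᵁ V)).surjective a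
    obtain ⟨b, rfl⟩ := (T.sec F (f ⁻¹ᵁ V)).surjective b
    rw [E.zero, E.zero] at h
    rw [hb.1 h]
  · intro t
    obtain ⟨s, rfl⟩ := hb.2 t
    exact ⟨_, E.zero V F s⟩

/-- The comparison commutes with restriction. -/
theorem res : ∀ (p : ℕ) (F : X.Modules) {V W : Y.Opens} (h : W ≤ V)
    (x : T.H (f ⁻¹ᵁ V) F p),
    E.ε W F p (T.res F (f.preimage_mono h) p x) = rs ((Coh.Rpush f p).obj F) h (E.ε V F p x) := by
  intro p
  induction p with
  | zero =>
    intro F V W h x
    obtain ⟨s, rfl⟩ := (T.sec F (f ⁻¹ᵁ V)).surjective x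
    rw [T.res_sec, E.zero, E.zero]
    exact QCoh.app_res ((Scheme.Modules.pushforward f).toRightDerivedZero.app F) h s
  | succ p ih =>
    intro F V W h x
    obtain ⟨S, rfl, hS, hI⟩ := exists_embedding_mod F
    obtain ⟨z, rfl⟩ := T.δ_surjective_of_injective _ hS hI p x
    rw [T.res_δ, E.delta, ih, QCoh.app_res, E.delta]

/-- Sections of `R^p f_* F` are locally classes. -/
theorem exists_locally : ∀ (p : ℕ) (F : X.Modules) (V : Y.Opens) (t : Γ((Coh.Rpush f p).obj F, V))
    (y : Y), y ∈ V → ∃ (W : Y.Opens) (hW : W ≤ V), y ∈ W ∧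
      ∃ x : T.H (f ⁻¹ᵁ W) F p, E.ε W F p x = rs ((Coh.Rpush f p).obj F) hW t := by
  intro p
  induction p with
  | zero =>
    intro F V t y hy
    obtain ⟨x, hx⟩ := (E.zero_bijective V F).2 t
    exact ⟨V, le_rfl, hy, x, hx.trans (QCoh.res_self _ _ _).symm⟩
  | succ p ih =>
    intro F V t y hy
    obtain ⟨S, rfl, hS, hI⟩ := exists_embedding_mod F
    have hz : IsZero ((Coh.Rpush f (p + 1)).obj S.X₂) :=
      Functor.isZero_rightDerived_obj_injective_succ _ p S.X₂
    have : Epi (Δ.δ S hS p (p + 1) rfl) :=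
      (Δ.exact₁ S hS p (p + 1) rfl).epi_f (hz.eq_of_tgt _ _)
    obtain ⟨W, hW, hyW, s, hs⟩ := QCoh.exists_locally_app_eq (Δ.δ S hS p (p + 1) rfl) V t y hy
    obtain ⟨W', hW', hyW', z, hz'⟩ := ih S.X₃ W s y hyW
    refine ⟨W', hW'.trans hW, hyW', T.δ _ hS p z, ?_⟩
    rw [E.delta, hz', QCoh.app_res, hs, QCoh.res_res]

/-- Classes with vanishing image vanish locally. -/
theorem exists_locally_eq_zero : ∀ (p : ℕ) (F : X.Modules) (V : Y.Opens)
    (x : T.H (f ⁻¹ᵁ V) F p), E.ε V F p x = 0 → ∀ (y : Y), y ∈ V →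
    ∃ (W : Y.Opens) (hW : W ≤ V), y ∈ W ∧ T.res F (f.preimage_mono hW) p x = 0 := by
  intro p
  induction p with
  | zero =>
    intro F V x hx y hy
    refine ⟨V, le_rfl, hy, ?_⟩
    rw [(E.zero_bijective V F).1 (hx.trans (map_zero _).symm), map_zero]
  | succ p ih =>
    intro F V x hx y hy
    obtain ⟨S, rfl, hS, hI⟩ := exists_embedding_mod F
    obtain ⟨z, rfl⟩ := T.δ_surjective_of_injective _ hS hI p x
    have h0 : (Δ.δ S hS p (p + 1) rfl).app V (E.ε V S.X₃ p z) = 0 :=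
      (E.delta V S hS p z).symm.trans hx
    obtain ⟨W, hW, hyW, s, hs⟩ := exists_locally_of_exact _ (Δ.exact₃ S hS p (p + 1) rfl) V _ h0 y hy
    obtain ⟨W₁, hW₁, hyW₁, a, ha⟩ := E.exists_locally p S.X₂ W s y hyW
    have heq : E.ε W₁ S.X₃ p (T.res S.X₃ (f.preimage_mono (hW₁.trans hW)) p z -
        T.map (f ⁻¹ᵁ W₁) S.g p a) = 0 := by
      rw [map_sub, E.res, sub_eq_zero, E.natural, ha, QCoh.app_res, hs, QCoh.res_res]
    obtain ⟨W₂, hW₂, hyW₂, h2⟩ := ih S.X₃ W₁ _ heq y hyW₁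
    refine ⟨W₂, hW₂.trans (hW₁.trans hW), hyW₂, ?_⟩
    rw [map_sub, sub_eq_zero, T.res_res, T.res_map] at h2
    rw [T.res_δ, h2, T.δ_map]

section Affine

variable [QuasiCompact f] [QuasiSeparated f]

/-- Cocycles whose class maps to zero are coboundaries, over an affine open. -/
lemma cls_eq_zero_of_ε (R : FRes X) [(R.Z 0).IsQuasicoherent] {V : Y.Opens} (hV : IsAffineOpen V) (n : ℕ)
    (z : Γ(R.Z (n + 1), f ⁻¹ᵁ V)) (h : E.ε V (R.Z 0) (n + 1) (T.cls (n + 1) R _ z) = 0) :
    T.cls (n + 1) R (f ⁻¹ᵁ V) z = 0 := by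
  rw [T.cls_eq_zero_iff]
  refine R.ex_of_π'_eq_zero f hV n z ?_
  choose W hW hyW hx using fun (y : Y) (hy : y ∈ V) => E.exists_locally_eq_zero _ _ V _ h y hy
  refine QCoh.eq_zero_of_locally_eq_zero (R.Rc f n) (U := fun y : V => W y.1 y.2) (fun y => hW y.1 y.2)
    (fun y hy => TopologicalSpace.Opens.mem_iSup.2 ⟨⟨y, hy⟩, hyW y hy⟩) _ fun y => ?_
  rw [CohAff.FRes.π'_res]
  refine R.π'_eq_zero_of_ex f n ?_
  rw [← T.cls_eq_zero_iff, ← T.cls_res]
  exact hx y.1 y.2

/-- Over an affine open the comparison is bijective on the first module of a resolution. -/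
theorem bijective_succ (R : FRes X) [(R.Z 0).IsQuasicoherent] {V : Y.Opens} (hV : IsAffineOpen V) (n : ℕ) :
    Function.Bijective (E.ε V (R.Z 0) (n + 1)) := by
  constructor
  · refine (injective_iff_map_eq_zero _).2 fun x hx => ?_
    obtain ⟨z, rfl⟩ := T.cls_surjective _ R _ x
    exact E.cls_eq_zero_of_ε R hV n z hx
  · intro t
    choose W hW hyW x hx using fun (y : Y) (hy : y ∈ V) => E.exists_locally _ (R.Z 0) V t y hy
    choose z hz using fun (y : Y) (hy : y ∈ V) => T.cls_surjective _ R _ (x y hy)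
    -- the classes glue in the model
    obtain ⟨r, hr⟩ := QCoh.exists_glue (R.Rc f n) (U := fun y : V => W y.1 y.2)
      (fun y => hW y.1 y.2) (fun y hy => TopologicalSpace.Opens.mem_iSup.2 ⟨⟨y, hy⟩, hyW y hy⟩)
      (fun y => R.π' f n _ (z y.1 y.2)) (fun y y' => by
        rw [CohAff.FRes.π'_res, CohAff.FRes.π'_res, ← sub_eq_zero, ← map_sub]
        set A := W y.1 y.2 ⊓ W y'.1 y'.2
        set d := rs (R.Z (n + 1)) (f.preimage_mono inf_le_left) (z y.1 y.2) -
          rs (R.Z (n + 1)) (f.preimage_mono inf_le_right) (z y'.1 y'.2) with hd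
        have hε : E.ε A (R.Z 0) (n + 1) (T.cls (n + 1) R _ d) = 0 := by
          rw [hd, map_sub, map_sub, ← T.cls_res, ← T.cls_res, hz, hz, E.res, E.res, hx, hx,
            QCoh.res_res, QCoh.res_res, sub_self]
          all_goals first | exact inf_le_left | exact inf_le_right
        choose W' hW' hyW' hx' using fun (v : Y) (hv : v ∈ A) =>
          E.exists_locally_eq_zero _ _ A _ hε v hv
        refine QCoh.eq_zero_of_locally_eq_zero (R.Rc f n) (U := fun v : A => W' v.1 v.2)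
          (fun v => hW' v.1 v.2)
          (fun v hv => TopologicalSpace.Opens.mem_iSup.2 ⟨⟨v, hv⟩, hyW' v hv⟩) _ fun v => ?_
        rw [CohAff.FRes.π'_res]
        refine R.π'_eq_zero_of_ex f n ?_
        rw [← T.cls_eq_zero_iff, ← T.cls_res]
        exact hx' v.1 v.2)
    obtain ⟨w, rfl⟩ := R.π'_surjective f hV n r
    refine ⟨T.cls (n + 1) R _ w, ?_⟩
    have key : ∀ (y : Y) (hy : y ∈ V), ∃ (W' : Y.Opens) (h' : W' ≤ V), y ∈ W' ∧
        rs ((Coh.Rpush f (n + 1)).obj (R.Z 0)) h' (E.ε V (R.Z 0) (n + 1) (T.cls (n + 1) R _ w)) =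
          rs ((Coh.Rpush f (n + 1)).obj (R.Z 0)) h' t := by
      intro y hy
      have h0 : R.π' f n _ (rs _ (f.preimage_mono (hW y hy)) w - z y hy) = 0 := by
        rw [map_sub, sub_eq_zero, ← CohAff.FRes.π'_res]
        exact hr ⟨y, hy⟩
      obtain ⟨W', hW', hyW', hex⟩ := R.exists_locally_ex f n h0 y (hyW y hy)
      refine ⟨W', hW'.trans (hW y hy), hyW', ?_⟩
      have h1 : T.cls (n + 1) R _ (rs _ (f.preimage_mono hW') (rs _ (f.preimage_mono (hW y hy)) w)) =
          T.cls (n + 1) R _ (rs _ (f.preimage_mono hW') (z y hy)) := by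
        rw [← sub_eq_zero, ← map_sub, ← map_sub, T.cls_eq_zero_iff]
        exact hex
      rw [QCoh.res_res, ← T.cls_res, ← T.cls_res, hz] at h1
      rw [← E.res, h1, E.res, hx, QCoh.res_res]
      all_goals exact hW'
    choose W' h' hyW' he using key
    exact QCoh.eq_of_locally_eq ((Coh.Rpush f (n + 1)).obj (R.Z 0)) (U := fun y : V => W' y.1 y.2)
      (fun y => h' y.1 y.2)
      (fun y hy => TopologicalSpace.Opens.mem_iSup.2 ⟨⟨y, hy⟩, hyW' y hy⟩) _ _ fun y => he y.1 y.2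

end Affine

end Cmp

end Groth.Agent.CohBase
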